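import Mathlib
import Cfsg.Agent.Helper6.Ree.G2Core
import Cfsg.Agent.Helper6.Chev.WeylChain

set_option autoImplicit false
set_option linter.unusedSectionVars false
set_option linter.unusedVariables false
set_option linter.unusedSimpArgs false

/-!
The Weyl group of `G₂` acting on the twelve root indices, as an explicit list of permutations, and
the decomposition `N = ⋃ n_w H`.
-/

namespace Cfsg.Agent.Helper6.G2Two

open Cfsg.Lie Cfsg.Agent.Helper6 Cfsg.Agent.Helper6.Ree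

/-- the permutation of the root indices induced by a word -/
def permW (L : List ℕ) : List ℕ := (List.range 12).map (wFr chevG2 L)

/-- the twelve elements of the Weyl group, as permutations of the root indices -/
def W12 : List (List ℕ) :=
  [[0, 1, 2, 3, 4, 5, 6, 7, 8, 9, 10, 11], [0, 5, 3, 2, 7, 1, 10, 4, 9, 8, 6, 11],
   [1, 0, 2, 4, 3, 6, 5, 8, 7, 9, 11, 10], [1, 6, 4, 2, 8, 0, 11, 3, 9, 7, 5, 10],
   [5, 0, 3, 7, 2, 10, 1, 9, 4, 8, 11, 6], [5, 10, 7, 3, 9, 0, 11, 2, 8, 4, 1, 6],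
   [6, 1, 4, 8, 2, 11, 0, 9, 3, 7, 10, 5], [6, 11, 8, 4, 9, 1, 10, 2, 7, 3, 0, 5],
   [10, 5, 7, 9, 3, 11, 0, 8, 2, 4, 6, 1], [10, 11, 9, 7, 8, 5, 6, 3, 4, 2, 0, 1],
   [11, 6, 8, 9, 4, 10, 1, 7, 2, 3, 5, 0], [11, 10, 9, 8, 7, 6, 5, 4, 3, 2, 1, 0]]

/-- composition of a permutation (as a list) with a fundamental reflection on the right -/
def compW (p : List ℕ) (j : ℕ) : List ℕ :=
  (List.range 12).map fun r => p.getD (wR chevG2 (chevG2.simple j) r) 0

theorem compW_mem : ∀ p ∈ W12, ∀ j < 2, compW p j ∈ W12 := by decide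

theorem wR_lt12 : ∀ j < 2, ∀ r < 12, wR chevG2 (chevG2.simple j) r < 12 := by decide

theorem permW_getD (L : List ℕ) {s : ℕ} (hs : s < 12) : (permW L).getD s 0 = wFr chevG2 L s := by
  unfold permW
  rw [List.getD_eq_getElem?_getD, List.getElem?_map, List.getElem?_range hs]
  rfl

theorem permW_cons (j : ℕ) (hj : j < 2) (L : List ℕ) : permW (j :: L) = compW (permW L) j := by
  unfold permW compW
  apply List.map_congr_left
  intro r hr
  rw [List.mem_range] at hr
  have h1 := wR_lt12 j hj r hr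
  show wFr chevG2 L (wR chevG2 (chevG2.simple j) r) = _
  rw [List.getD_eq_getElem?_getD, List.getElem?_map, List.getElem?_range h1]
  rfl

theorem permW_mem : ∀ L : List ℕ, (∀ j ∈ L, j < 2) → permW L ∈ W12
  | [], _ => by decide
  | j :: L, h => by
    rw [permW_cons j (h j List.mem_cons_self)]
    exact compW_mem _ (permW_mem L (fun i hi => h i (List.mem_cons_of_mem _ hi))) j
      (h j List.mem_cons_self)

theorem fix11 : ∀ p ∈ W12, p.getD 11 0 = 11 → (p.getD 7 0 = 7 ∧ p.getD 6 0 = 6) ∨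
    (p.getD 7 0 = 4 ∧ p.getD 6 0 = 10) := by decide

theorem fix9 : ∀ p ∈ W12, p.getD 9 0 = 9 → (p.getD 7 0 = 7 ∧ p.getD 6 0 = 6) ∨
    (p.getD 7 0 = 8 ∧ p.getD 6 0 = 5) := by decide

/-- the possible images of the triple `(2a+b, 3a+b, 3a+2b)` -/
theorem triple9 : ∀ p ∈ W12, (p.getD 9 0, p.getD 10 0, p.getD 11 0) ∈
    ([(9, 10, 11), (9, 11, 10), (8, 6, 11), (8, 11, 6), (7, 5, 10), (7, 10, 5), (4, 1, 6), (4, 6, 1),
      (3, 0, 5), (3, 5, 0), (2, 0, 1), (2, 1, 0)] : List (ℕ × ℕ × ℕ)) := by decide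

variable {F : Type*} [Field F]

theorem bnG : BNData chevG2 F := bnData_of_tabulated F g2_tab

/-- every element of `N` is a word in `n_a`, `n_b` times an element of `H` -/
theorem monomial_eq_word {n : GL chevG2.Idx F} (hn : n ∈ chevG2.monomialSubgroup F) :
    ∃ L : List ℕ, (∀ j ∈ L, j < 2) ∧ ∃ h ∈ chevG2.diagonalSubgroup F, n = nWr hB2 F L * h := by
  have Δ := bnG (F := F)
  have hJ : ∀ i < chevG2.rank, i ∈ [0, 1] := by
    intro i hi
    have : chevG2.rank = 2 := rfl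
    rw [this] at hi
    interval_cases i <;> simp
  rw [← Δ.Nsub_eq_monomial hJ, Δ.mem_Nsub] at hn
  obtain ⟨L, h, hh, hL, rfl⟩ := hn
  exact ⟨L, fun j hj => (hL j hj).2, h, hh, rfl⟩

/-- words with the same action on `a` and `b` agree modulo `H` -/
theorem word_eq_of_key {L L' : List ℕ} (hL : ∀ j ∈ L, j < 2) (hL' : ∀ j ∈ L', j < 2)
    (h7 : wFr chevG2 L 7 = wFr chevG2 L' 7) (h6 : wFr chevG2 L 6 = wFr chevG2 L' 6) :
    ∃ d ∈ chevG2.diagonalSubgroup F, nWr hB2 F L = nWr hB2 F L' * d := by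
  have Δ := bnG (F := F)
  apply Δ.nWr_eq_mul_of_key (L := L) (L' := L') hL hL'
  intro m hm
  have : chevG2.rank = 2 := rfl
  rw [this] at hm
  interval_cases m
  · exact h7
  · exact h6

end Cfsg.Agent.Helper6.G2Two
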