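import Mathlib
import Cfsg.Agent.Helper6.G2Two.Weyl

set_option autoImplicit false
set_option linter.unusedSectionVars false
set_option linter.unusedVariables false
set_option linter.unusedSimpArgs false

/-!
Relations between root elements of `G₂` in characteristic `2`, and general facts on the subgroups
`U`, `H`, `N`, `X_r`.
-/

namespace Cfsg.Agent.Helper6.G2Two

open Cfsg.Lie Cfsg.Agent.Helper6 Cfsg.Agent.Helper6.Ree

variable {F : Type*} [Field F]

/-! ### generalities -/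

theorem X_mem_rootSub (r : ℕ) (t : F) : X r t ∈ chevG2.rootSubgroup F r :=
  Subgroup.subset_closure ⟨t, rfl⟩

theorem rootSub_le {r : ℕ} {K : Subgroup (GL chevG2.Idx F)} (h : ∀ t : F, X r t ∈ K) :
    chevG2.rootSubgroup F r ≤ K := by
  unfold ChevalleyDatum.rootSubgroup
  rw [Subgroup.closure_le]
  rintro g ⟨t, hg⟩
  have : g = X r t := Units.ext (by rw [hg, X_val])
  rw [this]; exact h t

theorem U_le {K : Subgroup (GL chevG2.Idx F)} (h : ∀ r, 6 ≤ r → r < 12 → ∀ t : F, X r t ∈ K) :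
    chevG2.posUnipotent F ≤ K := by
  unfold ChevalleyDatum.posUnipotent
  rw [Subgroup.closure_le]
  rintro g ⟨r, t, hr, hg⟩
  have : g = X r t := Units.ext (by rw [hg, X_val])
  rw [this]
  obtain ⟨h1, h2⟩ := isPos_iff.1 hr
  exact h r h1 h2 t

theorem X_mem_U {r : ℕ} (h1 : 6 ≤ r) (h2 : r < 12) (t : F) : X r t ∈ chevG2.posUnipotent F :=
  Subgroup.subset_closure ⟨r, t, isPos_iff.2 ⟨h1, h2⟩, rfl⟩

/-- the action of `H` on the root elements -/
theorem diag_conj_X {h : GL chevG2.Idx F} (hh : h ∈ chevG2.diagonalSubgroup F) :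
    ∃ c : ℕ → F, (∀ i, c i ≠ 0) ∧
      (h : Matrix chevG2.Idx chevG2.Idx F) = torMat chevG2 F c ∧
      ∀ r < 12, ∀ t : F, h * X r t * h⁻¹ = X r (torChar chevG2 c r * t) := by
  have Δ := bnG (F := F)
  obtain ⟨c, hc, hv⟩ := exists_torMat_of_mem_diagonal Δ.hB Δ.hH hh
  refine ⟨c, hc, hv, ?_⟩
  intro r hr t
  rw [mul_inv_eq_iff_eq_mul]
  apply Units.ext
  rw [Units.val_mul, Units.val_mul, hv, X_val, X_val]
  exact torMat_mul_x Δ.hB Δ.hAdd hc hr t

theorem torChar_ne (c : ℕ → F) (hc : ∀ i, c i ≠ 0) (r : ℕ) : torChar chevG2 c r ≠ 0 :=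
  torChar_ne_zero hc r

/-- a root element equal to a root element of `X_{11}` is in `X_{11}` -/
theorem root_eq_11 {r : ℕ} (hr : r < 12) {a b : F} (ha : a ≠ 0) (h : X r a = X 11 b) : r = 11 := by
  have Δ := bnG (F := F)
  by_contra hne
  have hr' : r < 11 := by omega
  by_cases h6 : 6 ≤ r
  · have hmem : X r a ∈ Uge chevG2 F (r + 1) := by
      rw [h]; exact X_mem_Uge (by omega) (by norm_num) _
    exact ha (xU_mem_uge_succ (F := F) g2_tab (k := r) (show chevG2.nroots / 2 ≤ r from h6) hr hmem)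
  · have hB : X r a ∈ chevG2.borelSubgroup F := by
      rw [h]; exact Δ.posUnipotent_le_borel (X_mem_U (by norm_num) (by norm_num) _)
    exact ha (Δ.eq_zero_of_xU_neg_mem_borel hr (show r < chevG2.nroots / 2 from (by omega : r < 6)) hB)

/-! ### characteristic `2` -/

section char2

variable [CharP F 2]

theorem X_inv2 (r : ℕ) (t : F) : (X r t)⁻¹ = X r t := by
  rw [X_inv, CharTwo.neg_eq]

theorem X_sq (r : ℕ) (t : F) : X r t * X r t = 1 := by
  rw [X_add, CharTwo.add_self_eq_zero, X_zero]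

theorem sign_eq_one {c : F} (hc : c * c = 1) : c = 1 := by
  have h : (c - 1) * (c - 1) = 0 := by
    have h2 : (2 : F) = 0 := CharTwo.two_eq_zero
    have : (c - 1) * (c - 1) = c * c - 2 * c + 1 := by ring
    rw [this, hc, h2]
    have h3 : (1 : F) + 1 = 0 := CharTwo.add_self_eq_zero 1
    linear_combination h3
  have := mul_self_eq_zero.1 h
  exact sub_eq_zero.1 this

/-- conjugation by a word, in characteristic `2` -/
theorem nWr_conj2 {L : List ℕ} (hL : ∀ j ∈ L, j < 2) {r : ℕ} (hr : r < 12) (t : F) :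
    nWr hB2 F L * X r t * (nWr hB2 F L)⁻¹ = X (wFr chevG2 L r) t := by
  have Δ := bnG (F := F)
  obtain ⟨c, hc, h⟩ := Δ.nWr_conj (L := L) hL (r := r) hr
  have := h t
  rw [sign_eq_one hc, one_mul] at this
  exact this

theorem ct79 : chevG2.commTerms 7 9 = [(10, 3, 1, 1)] := by decide
theorem ct89 : chevG2.commTerms 8 9 = [(11, 3, 1, 1)] := by decide
theorem ct6_10 : chevG2.commTerms 6 10 = [(11, 1, 1, 1)] := by decide
theorem ct78 : chevG2.commTerms 7 8 = [(9, -2, 1, 1), (10, -3, 2, 1), (11, 3, 1, 2)] := by decide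

theorem three_eq_one : (3 : F) = 1 := by
  have h2 : (2 : F) = 0 := CharTwo.two_eq_zero
  have : (3 : F) = 2 + 1 := by norm_num
  rw [this, h2, zero_add]

/-- `x_{2a+b}(u) x_a(t) = x_a(t) x_{2a+b}(u) x_{3a+b}(tu)` -/
theorem c97 (t u : F) : X 9 u * X 7 t = X 7 t * X 9 u * X 10 (t * u) := by
  rw [X_commF (r := 7) (s := 9) (by norm_num) (by norm_num) (by norm_num) (by norm_num)]
  unfold ChevalleyDatum.commWord
  rw [ct79]
  simp only [List.map_cons, List.map_nil, wordU_cons, wordU_nil, mul_one]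
  congr 2
  push_cast
  rw [three_eq_one, CharTwo.neg_eq]; ring

/-- `x_{2a+b}(u) x_{a+b}(t) = x_{a+b}(t) x_{2a+b}(u) x_{3a+2b}(tu)` -/
theorem c98 (t u : F) : X 9 u * X 8 t = X 8 t * X 9 u * X 11 (t * u) := by
  rw [X_commF (r := 8) (s := 9) (by norm_num) (by norm_num) (by norm_num) (by norm_num)]
  unfold ChevalleyDatum.commWord
  rw [ct89]
  simp only [List.map_cons, List.map_nil, wordU_cons, wordU_nil, mul_one]
  congr 2
  push_cast
  rw [three_eq_one, CharTwo.neg_eq]; ring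

/-- `x_{3a+b}(u) x_b(t) = x_b(t) x_{3a+b}(u) x_{3a+2b}(tu)` -/
theorem c10_6 (t u : F) : X 10 u * X 6 t = X 6 t * X 10 u * X 11 (t * u) := by
  rw [X_commF (r := 6) (s := 10) (by norm_num) (by norm_num) (by norm_num) (by norm_num)]
  unfold ChevalleyDatum.commWord
  rw [ct6_10]
  simp only [List.map_cons, List.map_nil, wordU_cons, wordU_nil, mul_one]
  congr 2
  push_cast
  rw [CharTwo.neg_eq]; ring

/-- `x_{a+b}(u) x_a(t) = x_a(t) x_{a+b}(u) x_{3a+b}(t²u) x_{3a+2b}(tu²)` -/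
theorem c87 (t u : F) : X 8 u * X 7 t = X 7 t * X 8 u * (X 10 (t ^ 2 * u) * X 11 (t * u ^ 2)) := by
  rw [X_commF (r := 7) (s := 8) (by norm_num) (by norm_num) (by norm_num) (by norm_num)]
  unfold ChevalleyDatum.commWord
  rw [ct78]
  simp only [List.map_cons, List.map_nil, wordU_cons, wordU_nil, mul_one]
  have h2 : (2 : F) = 0 := CharTwo.two_eq_zero
  have e1 : ((-2 : ℤ) : F) * (-t) ^ 1 * u ^ 1 = 0 := by push_cast; rw [h2]; ring
  have e2 : ((-3 : ℤ) : F) * (-t) ^ 2 * u ^ 1 = t ^ 2 * u := by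
    push_cast; rw [three_eq_one, CharTwo.neg_eq, CharTwo.neg_eq]; ring
  have e3 : ((3 : ℤ) : F) * (-t) ^ 1 * u ^ 2 = t * u ^ 2 := by
    push_cast; rw [three_eq_one, CharTwo.neg_eq]; ring
  rw [e1, e2, e3, X_zero, one_mul]

/-- `x_b(u) x_a(t) = x_a(t) x_b(u) x_{a+b}(tu) x_{2a+b}(t²u) x_{3a+b}(t³u) x_{3a+2b}(t³u²)` -/
theorem c67 (t u : F) : X 6 u * X 7 t = X 7 t * X 6 u * (X 8 (t * u) * (X 9 (t ^ 2 * u) *
    (X 10 (t ^ 3 * u) * X 11 (t ^ 3 * u ^ 2)))) := by
  rw [comm76, CharTwo.neg_eq, CharTwo.neg_eq]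

end char2

/-! ### commuting root subgroups -/

theorem c_6_8 (t u : F) : Commute (X 6 t) (X 8 u) :=
  X_comm (by norm_num) (by norm_num) (by norm_num) (by norm_num) (by decide) t u
theorem c_6_9 (t u : F) : Commute (X 6 t) (X 9 u) :=
  X_comm (by norm_num) (by norm_num) (by norm_num) (by norm_num) (by decide) t u
theorem c_6_11 (t u : F) : Commute (X 6 t) (X 11 u) :=
  X_comm (by norm_num) (by norm_num) (by norm_num) (by norm_num) (by decide) t u
theorem c_7_10 (t u : F) : Commute (X 7 t) (X 10 u) :=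
  X_comm (by norm_num) (by norm_num) (by norm_num) (by norm_num) (by decide) t u
theorem c_7_11 (t u : F) : Commute (X 7 t) (X 11 u) :=
  X_comm (by norm_num) (by norm_num) (by norm_num) (by norm_num) (by decide) t u
theorem c_4_11 (t u : F) : Commute (X 4 t) (X 11 u) :=
  X_comm (by norm_num) (by norm_num) (by norm_num) (by norm_num) (by decide) t u
theorem c_5_9 (t u : F) : Commute (X 5 t) (X 9 u) :=
  X_comm (by norm_num) (by norm_num) (by norm_num) (by norm_num) (by decide) t u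
theorem c_5_10 (t u : F) : Commute (X 5 t) (X 10 u) :=
  X_comm (by norm_num) (by norm_num) (by norm_num) (by norm_num) (by decide) t u
theorem c_self (r : ℕ) (t u : F) : Commute (X r t) (X r u) := by
  show X r t * X r u = X r u * X r t
  rw [X_add, X_add, add_comm]

/-- `X_{3a+2b}` is central in `U` -/
theorem c_pos_11 {r : ℕ} (h1 : 6 ≤ r) (h2 : r < 12) (t u : F) : Commute (X r t) (X 11 u) := by
  interval_cases r
  · exact c_6_11 t u
  · exact c_7_11 t u
  · exact c_8_11 t u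
  · exact c_9_11 t u
  · exact c_10_11 t u
  · exact c_self 11 t u

theorem U_comm_11 {g : GL chevG2.Idx F} (hg : g ∈ chevG2.posUnipotent F) (u : F) :
    Commute g (X 11 u) := by
  have : chevG2.posUnipotent F ≤ Subgroup.centralizer {X 11 u} := by
    apply U_le
    intro r h1 h2 t
    rw [Subgroup.mem_centralizer_iff]
    intro y hy
    rw [Set.mem_singleton_iff] at hy
    subst hy
    exact (c_pos_11 h1 h2 t u).eq.symm
  have h := this hg
  rw [Subgroup.mem_centralizer_iff] at h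
  exact (h _ rfl).symm

end Cfsg.Agent.Helper6.G2Two
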