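import Mathlib
import Cfsg.Agent.Helper6.G2Two.Base
import Cfsg.Agent.Helper6.Chev.TorusCard

set_option autoImplicit false
set_option linter.unusedSectionVars false
set_option linter.unusedVariables false
set_option linter.unusedSimpArgs false

/-!
The centraliser of the long root involution `x_{3a+2b}(1)` in `G₂(2ⁿ)`.
-/

namespace Cfsg.Agent.Helper6.G2Two

open Cfsg.Lie Cfsg.Agent.Helper6 Cfsg.Agent.Helper6.Ree

variable {F : Type*} [Field F]

theorem corootC_7 : corootC chevG2 7 0 = 1 ∧ corootC chevG2 7 1 = 0 := by decide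
theorem corootC_6 : corootC chevG2 6 0 = 0 ∧ corootC chevG2 6 1 = 1 := by decide

/-- a torus element `h(c₀, 1)` is `h_a(c₀)`, a word in `X_a` and `X_{-a}` -/
theorem torMat_mem_7 {h : GL chevG2.Idx F} {c : ℕ → F} (hc : ∀ i, c i ≠ 0)
    (hv : (h : Matrix chevG2.Idx chevG2.Idx F) = torMat chevG2 F c) (h1 : c 1 = 1) :
    h ∈ chevG2.rootSubgroup F 7 ⊔ chevG2.rootSubgroup F 4 := by
  have Δ := bnG (F := F)
  have e : (h : Matrix chevG2.Idx chevG2.Idx F) = chevG2.hMat F 7 (c 0) := by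
    rw [hv, hMat_eq_torMat (Δ.hH 7 (by decide)) (hc 0)]
    apply torMat_congr
    intro i hi
    have : chevG2.rank = 2 := rfl
    rw [this] at hi
    interval_cases i
    · rw [corootC_7.1, zpow_one]
    · rw [corootC_7.2, zpow_zero, h1]
  rw [ReeCtx.hU_eq (by norm_num) (hc 0) e, nU_eq (by norm_num), nU_eq (by norm_num)]
  have h7 : ∀ t : F, X 7 t ∈ chevG2.rootSubgroup F 7 ⊔ chevG2.rootSubgroup F 4 :=
    fun t => Subgroup.mem_sup_left (X_mem_rootSub 7 t)
  have h4 : ∀ t : F, X 4 t ∈ chevG2.rootSubgroup F 7 ⊔ chevG2.rootSubgroup F 4 :=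
    fun t => Subgroup.mem_sup_right (X_mem_rootSub 4 t)
  exact Subgroup.mul_mem _ (Subgroup.mul_mem _ (Subgroup.mul_mem _ (h7 _) (h4 _)) (h7 _))
    (Subgroup.mul_mem _ (Subgroup.mul_mem _ (h7 _) (h4 _)) (h7 _))

/-- a torus element `h(1, c₁)` is `h_b(c₁)`, a word in `X_b` and `X_{-b}` -/
theorem torMat_mem_6 {h : GL chevG2.Idx F} {c : ℕ → F} (hc : ∀ i, c i ≠ 0)
    (hv : (h : Matrix chevG2.Idx chevG2.Idx F) = torMat chevG2 F c) (h0 : c 0 = 1) :
    h ∈ chevG2.rootSubgroup F 6 ⊔ chevG2.rootSubgroup F 5 := by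
  have Δ := bnG (F := F)
  have e : (h : Matrix chevG2.Idx chevG2.Idx F) = chevG2.hMat F 6 (c 1) := by
    rw [hv, hMat_eq_torMat (Δ.hH 6 (by decide)) (hc 1)]
    apply torMat_congr
    intro i hi
    have : chevG2.rank = 2 := rfl
    rw [this] at hi
    interval_cases i
    · rw [corootC_6.1, zpow_zero, h0]
    · rw [corootC_6.2, zpow_one]
  rw [ReeCtx.hU_eq (by norm_num) (hc 1) e, nU_eq (by norm_num), nU_eq (by norm_num)]
  have h6 : ∀ t : F, X 6 t ∈ chevG2.rootSubgroup F 6 ⊔ chevG2.rootSubgroup F 5 :=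
    fun t => Subgroup.mem_sup_left (X_mem_rootSub 6 t)
  have h5 : ∀ t : F, X 5 t ∈ chevG2.rootSubgroup F 6 ⊔ chevG2.rootSubgroup F 5 :=
    fun t => Subgroup.mem_sup_right (X_mem_rootSub 5 t)
  exact Subgroup.mul_mem _ (Subgroup.mul_mem _ (Subgroup.mul_mem _ (h6 _) (h5 _)) (h6 _))
    (Subgroup.mul_mem _ (Subgroup.mul_mem _ (h6 _) (h5 _)) (h6 _))

/-- the elements of `H` centralising `x_{3a+2b}(1)` -/
theorem torus_comm_11 {h : GL chevG2.Idx F} (hh : h ∈ chevG2.diagonalSubgroup F)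
    (hc : Commute h (X 11 1)) : h ∈ chevG2.rootSubgroup F 7 ⊔ chevG2.rootSubgroup F 4 := by
  obtain ⟨c, hc0, hv, hconj⟩ := diag_conj_X hh
  have h1 := hconj 11 (by norm_num) 1
  have h2 : h * X 11 1 * h⁻¹ = X 11 1 := by rw [hc.eq]; group
  rw [h2, mul_one, torChar_11] at h1
  exact torMat_mem_7 hc0 hv (X_inj (by norm_num) h1).symm

section char2

variable [CharP F 2]

theorem wFr_one0 : wFr chevG2 [0] 7 = 4 ∧ wFr chevG2 [0] 6 = 10 := by decide
theorem wFr_one1 : wFr chevG2 [1] 7 = 8 ∧ wFr chevG2 [1] 6 = 5 := by decide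
theorem wFr_nil (r : ℕ) : wFr chevG2 [] r = r := rfl

theorem nWr_nil : nWr hB2 F [] = 1 := rfl

theorem nWr_one (j : ℕ) : nWr hB2 F [j] = nU hB2 (chevG2.simple j) (one_ne_zero (α := F)) := by
  show 1 * _ = _
  rw [one_mul]

/-- `n_a = x_a(1) x_{-a}(1) x_a(1)` in characteristic `2` -/
theorem nWr_zero_eq : nWr hB2 F [0] = X 7 1 * X 4 1 * X 7 1 := by
  rw [nWr_one]
  have : chevG2.simple 0 = 7 := rfl
  rw [this, nU_eq (by norm_num)]
  norm_num
  rw [CharTwo.neg_eq]

/-- `n_b = x_b(1) x_{-b}(1) x_b(1)` in characteristic `2` -/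
theorem nWr_one_eq : nWr hB2 F [1] = X 6 1 * X 5 1 * X 6 1 := by
  rw [nWr_one]
  have : chevG2.simple 1 = 6 := rfl
  rw [this, nU_eq (by norm_num)]
  norm_num
  rw [CharTwo.neg_eq]

/-- the monomial elements centralising `x_{3a+2b}(1)` -/
theorem monomial_comm_11 {n : GL chevG2.Idx F} (hn : n ∈ chevG2.monomialSubgroup F)
    (hnc : Commute n (X 11 1)) :
    n ∈ chevG2.rootSubgroup F 7 ⊔ chevG2.rootSubgroup F 4 := by
  have Δ := bnG (F := F)
  obtain ⟨L, hL, h, hh, rfl⟩ := monomial_eq_word hn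
  obtain ⟨c, hc0, hv, hconj⟩ := diag_conj_X hh
  have e2 : nWr hB2 F L * h * X 11 1 * (nWr hB2 F L * h)⁻¹ =
      X (wFr chevG2 L 11) (torChar chevG2 c 11 * 1) := by
    calc nWr hB2 F L * h * X 11 1 * (nWr hB2 F L * h)⁻¹
        = nWr hB2 F L * (h * X 11 1 * h⁻¹) * (nWr hB2 F L)⁻¹ := by group
      _ = nWr hB2 F L * X 11 (torChar chevG2 c 11 * 1) * (nWr hB2 F L)⁻¹ := by
          rw [hconj 11 (by norm_num) 1]
      _ = _ := nWr_conj2 hL (by norm_num) _
  have e3 : nWr hB2 F L * h * X 11 1 * (nWr hB2 F L * h)⁻¹ = X 11 1 := by rw [hnc.eq]; group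
  rw [e3] at e2
  have hlt : wFr chevG2 L 11 < 12 := Δ.wFr_lt hL (by decide)
  have ha : torChar chevG2 c 11 * 1 ≠ 0 := by
    rw [mul_one]; exact torChar_ne c hc0 11
  have h11 : wFr chevG2 L 11 = 11 := root_eq_11 hlt ha e2.symm
  have hp := permW_mem L hL
  have hp11 : (permW L).getD 11 0 = 11 := by rw [permW_getD L (by norm_num), h11]
  have h7 : ∀ t : F, X 7 t ∈ chevG2.rootSubgroup F 7 ⊔ chevG2.rootSubgroup F 4 :=
    fun t => Subgroup.mem_sup_left (X_mem_rootSub 7 t)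
  have h4 : ∀ t : F, X 4 t ∈ chevG2.rootSubgroup F 7 ⊔ chevG2.rootSubgroup F 4 :=
    fun t => Subgroup.mem_sup_right (X_mem_rootSub 4 t)
  rcases fix11 _ hp hp11 with ⟨k7, k6⟩ | ⟨k7, k6⟩
  · rw [permW_getD L (by norm_num)] at k7 k6
    obtain ⟨d, hd, hdL⟩ := word_eq_of_key (F := F) (L := L) (L' := []) hL (by simp)
      (by rw [k7, wFr_nil]) (by rw [k6, wFr_nil])
    rw [nWr_nil, one_mul] at hdL
    rw [hdL] at hnc ⊢
    exact torus_comm_11 (Subgroup.mul_mem _ hd hh) hnc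
  · rw [permW_getD L (by norm_num)] at k7 k6
    obtain ⟨d, hd, hdL⟩ := word_eq_of_key (F := F) (L := L) (L' := [0]) hL (by simp)
      (by rw [k7, wFr_one0.1]) (by rw [k6, wFr_one0.2])
    rw [hdL] at hnc ⊢
    have hn0 : Commute (nWr hB2 F [0]) (X 11 (1 : F)) := by
      rw [nWr_zero_eq]
      exact ((c_7_11 _ _).mul_left (c_4_11 _ _)).mul_left (c_7_11 _ _)
    have hdh : Commute (d * h) (X 11 (1 : F)) := by
      have e : d * h = (nWr hB2 F [0])⁻¹ * (nWr hB2 F [0] * d * h) := by group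
      rw [e]
      exact hn0.inv_left.mul_left hnc
    have h1 := torus_comm_11 (Subgroup.mul_mem _ hd hh) hdh
    have e : nWr hB2 F [0] * d * h = nWr hB2 F [0] * (d * h) := by group
    rw [e]
    apply Subgroup.mul_mem _ _ h1
    rw [nWr_zero_eq]
    exact Subgroup.mul_mem _ (Subgroup.mul_mem _ (h7 _) (h4 _)) (h7 _)

/-- **the centraliser of a long root involution**, one inclusion -/
theorem long_cent_le {g : GL chevG2.Idx F} (hg : g ∈ chevG2.group F)
    (hc : Commute g (X 11 1)) : g ∈ chevG2.posUnipotent F ⊔ chevG2.rootSubgroup F 4 := by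
  have Δ := bnG (F := F)
  obtain ⟨u₁, hu₁, n, hn, u, hu, rfl⟩ := Δ.unu_exists hg
  have huU : u ∈ chevG2.posUnipotent F := ((Δ.mem_Un_iff hn).1 hu).1
  have hnc : Commute n (X 11 1) := by
    have e1 : u₁ * (n * X 11 1) * u = u₁ * (X 11 1 * n) * u := by
      calc u₁ * (n * X 11 1) * u = u₁ * n * (X 11 1 * u) := by group
        _ = u₁ * n * (u * X 11 1) := by rw [(U_comm_11 huU 1).eq]
        _ = u₁ * n * u * X 11 1 := by group
        _ = X 11 1 * (u₁ * n * u) := hc.eq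
        _ = (X 11 1 * u₁) * n * u := by group
        _ = (u₁ * X 11 1) * n * u := by rw [(U_comm_11 hu₁ 1).eq]
        _ = u₁ * (X 11 1 * n) * u := by group
    exact mul_left_cancel (mul_right_cancel e1)
  have h1 := monomial_comm_11 hn hnc
  have hle : chevG2.rootSubgroup F 7 ⊔ chevG2.rootSubgroup F 4 ≤
      chevG2.posUnipotent F ⊔ chevG2.rootSubgroup F 4 := by
    apply sup_le _ le_sup_right
    exact le_trans (rootSub_le (fun t => X_mem_U (by norm_num) (by norm_num) t)) le_sup_left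
  exact Subgroup.mul_mem _ (Subgroup.mul_mem _ (Subgroup.mem_sup_left hu₁) (hle h1))
    (Subgroup.mem_sup_left huU)

/-- **the centraliser of a long root involution**, the other inclusion -/
theorem long_cent_ge : chevG2.posUnipotent F ⊔ chevG2.rootSubgroup F 4 ≤
    chevG2.group F ⊓ Subgroup.centralizer {X 11 (1 : F)} := by
  apply sup_le
  · apply U_le
    intro r h1 h2 t
    refine Subgroup.mem_inf.2 ⟨X_mem_group h2 t, ?_⟩
    rw [Subgroup.mem_centralizer_iff]
    intro y hy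
    rw [Set.mem_singleton_iff] at hy
    subst hy
    exact (c_pos_11 h1 h2 t 1).eq.symm
  · apply rootSub_le
    intro t
    refine Subgroup.mem_inf.2 ⟨X_mem_group (by norm_num) t, ?_⟩
    rw [Subgroup.mem_centralizer_iff]
    intro y hy
    rw [Set.mem_singleton_iff] at hy
    subst hy
    exact (c_4_11 t 1).eq.symm

theorem long_cent : chevG2.group F ⊓ Subgroup.centralizer {X 11 (1 : F)} =
    chevG2.posUnipotent F ⊔ chevG2.rootSubgroup F 4 := by
  apply le_antisymm _ long_cent_ge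
  intro g hgc
  obtain ⟨hg, hc⟩ := Subgroup.mem_inf.1 hgc
  rw [Subgroup.mem_centralizer_iff] at hc
  exact long_cent_le hg (hc _ rfl).symm

end char2

end Cfsg.Agent.Helper6.G2Two
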