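import Mathlib
import Cfsg.Agent.Helper6.G2Two.CentLong

set_option autoImplicit false
set_option linter.unusedSectionVars false
set_option linter.unusedVariables false
set_option linter.unusedSimpArgs false

/-!
The centraliser of the short root involution `x_{2a+b}(1)` in `G₂(2ⁿ)`.
-/

namespace Cfsg.Agent.Helper6.G2Two

open Cfsg.Lie Cfsg.Agent.Helper6 Cfsg.Agent.Helper6.Ree

variable {F : Type*} [Field F]

/-! ### distinct root subgroups meet trivially -/

theorem UV_eq_one {g : GL chevG2.Idx F} (hU : g ∈ chevG2.posUnipotent F)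
    (hV : g ∈ chevG2.negUnipotent F) : g = 1 := by
  have Δ := bnG (F := F)
  have : g ∈ chevG2.borelSubgroup F ⊓ chevG2.negUnipotent F := ⟨Δ.posUnipotent_le_borel hU, hV⟩
  rw [borel_inf_negUnipotent Δ.hB Δ.hH Δ.good2, Subgroup.mem_bot] at this
  exact this

theorem X_neg_eq_zero {r : ℕ} (hr : r < 6) {a : F} (h : X r a ∈ chevG2.posUnipotent F) : a = 0 := by
  have Δ := bnG (F := F)
  exact Δ.eq_zero_of_xU_neg_mem_borel (show r < chevG2.nroots from by
    show r < 12
    omega) (show r < chevG2.nroots / 2 from hr) (Δ.posUnipotent_le_borel h)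

theorem X_pos_eq_zero {r : ℕ} (h6 : 6 ≤ r) (hr : r < 12) {a : F}
    (h : X r a ∈ Uge chevG2 F (r + 1)) : a = 0 :=
  xU_mem_uge_succ (F := F) g2_tab (k := r) (show chevG2.nroots / 2 ≤ r from h6) hr h

/-- root elements of distinct roots are distinct -/
theorem X_eq_X {r s : ℕ} (hr : r < 12) (hs : s < 12) (hrs : r ≠ s) {a b : F}
    (h : X r a = X s b) : a = 0 := by
  -- the positive case
  have pos : ∀ {r s : ℕ}, 6 ≤ r → r < 12 → 6 ≤ s → s < 12 → r ≠ s → ∀ {a b : F},
      X r a = X s b → a = 0 := by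
    intro r s h6r hr h6s hs hrs a b h
    rcases Nat.lt_or_gt_of_ne hrs with hlt | hgt
    · apply X_pos_eq_zero h6r hr
      rw [h]; exact X_mem_Uge (by omega) hs _
    · have hb : b = 0 := by
        apply X_pos_eq_zero h6s hs
        rw [← h]; exact X_mem_Uge (by omega) hr _
      rw [hb, X_zero] at h
      by_contra ha
      exact X_ne_one hr ha h
  by_cases h6r : 6 ≤ r
  · by_cases h6s : 6 ≤ s
    · exact pos h6r hr h6s hs hrs h
    · have hb : b = 0 := by
        apply X_neg_eq_zero (r := s) (by omega)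
        rw [← h]; exact X_mem_U h6r hr _
      rw [hb, X_zero] at h
      by_contra ha
      exact X_ne_one hr ha h
  · by_cases h6s : 6 ≤ s
    · apply X_neg_eq_zero (r := r) (by omega)
      rw [h]; exact X_mem_U h6s hs _
    · -- both negative: conjugate by the longest element
      obtain ⟨a', ha'⟩ := nw0_conj (K := F) hr a
      obtain ⟨b', hb'⟩ := nw0_conj (K := F) hs b
      rw [h, hb'] at ha'
      have ha0 : a' = 0 := pos (r := 11 - r) (s := 11 - s) (by omega) (by omega) (by omega) (by omega)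
        (by omega) ha'.symm
      rw [ha0, X_zero] at ha'
      rw [ha'] at hb'
      have : X s b = 1 := by
        have e : X s b = (nw0 F)⁻¹ * (nw0 F * X s b * (nw0 F)⁻¹) * nw0 F := by group
        rw [e, hb']; group
      rw [this] at h
      by_contra ha
      exact X_ne_one hr ha h

/-! ### the set `T` of the elements `x_{2a+b}(c) x_{3a+b}(α) x_{3a+2b}(β)`, `c ≠ 0` -/

/-- membership in `T` -/
def InT (y : GL chevG2.Idx F) : Prop :=
  ∃ c α β : F, c ≠ 0 ∧ y = X 9 c * (X 10 α * X 11 β)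

/-- a formal lemma on conjugation -/
theorem conj_of_comm {G : Type*} [Group G] {a b c : G} (h : b * a = a * b * c) (hac : Commute a c) :
    a * b * a⁻¹ = b * c⁻¹ := by
  have h1 : a * b = b * a * c⁻¹ := by rw [h]; group
  calc a * b * a⁻¹ = b * a * c⁻¹ * a⁻¹ := by rw [h1]
    _ = b * (a * c⁻¹) * a⁻¹ := by group
    _ = b * (c⁻¹ * a) * a⁻¹ := by rw [(hac.inv_right).eq]
    _ = b * c⁻¹ := by group

theorem conj_of_commute {G : Type*} [Group G] {a b : G} (h : Commute a b) : a * b * a⁻¹ = b := by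
  rw [h.eq]; group

theorem conj_mul3 {G : Type*} [Group G] (a x y z : G) :
    a * (x * (y * z)) * a⁻¹ = (a * x * a⁻¹) * ((a * y * a⁻¹) * (a * z * a⁻¹)) := by group

section char2

variable [CharP F 2]

theorem conj_7_9 (s c : F) : X 7 s * X 9 c * (X 7 s)⁻¹ = X 9 c * X 10 (s * c) := by
  rw [conj_of_comm (c97 s c) (c_7_10 _ _), X_inv2]

theorem conj_8_9 (s c : F) : X 8 s * X 9 c * (X 8 s)⁻¹ = X 9 c * X 11 (s * c) := by
  rw [conj_of_comm (c98 s c) (c_8_11 _ _), X_inv2]

theorem conj_6_10 (s c : F) : X 6 s * X 10 c * (X 6 s)⁻¹ = X 10 c * X 11 (s * c) := by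
  rw [conj_of_comm (c10_6 s c) (c_6_11 _ _), X_inv2]

theorem conj6_T (s c α β : F) : X 6 s * (X 9 c * (X 10 α * X 11 β)) * (X 6 s)⁻¹ =
    X 9 c * (X 10 α * X 11 (β + s * α)) := by
  rw [conj_mul3, conj_of_commute (c_6_9 s c), conj_6_10, conj_of_commute (c_6_11 s β), mul_assoc,
    X_add, add_comm]

theorem conj7_T (s c α β : F) : X 7 s * (X 9 c * (X 10 α * X 11 β)) * (X 7 s)⁻¹ =
    X 9 c * (X 10 (α + s * c) * X 11 β) := by
  rw [conj_mul3, conj_7_9, conj_of_commute (c_7_10 s α), conj_of_commute (c_7_11 s β), mul_assoc,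
    ← mul_assoc (X 10 _), X_add, add_comm]

theorem conj8_T (s c α β : F) : X 8 s * (X 9 c * (X 10 α * X 11 β)) * (X 8 s)⁻¹ =
    X 9 c * (X 10 α * X 11 (β + s * c)) := by
  rw [conj_mul3, conj_8_9, conj_of_commute (c_8_10 s α), conj_of_commute (c_8_11 s β), mul_assoc,
    ← mul_assoc (X 11 _), ((c_10_11 α (s * c)).eq).symm, mul_assoc, X_add, add_comm]

theorem conj_ge9_T {r : ℕ} (h9 : 9 ≤ r) (hr : r < 12) (s c α β : F) :
    X r s * (X 9 c * (X 10 α * X 11 β)) * (X r s)⁻¹ = X 9 c * (X 10 α * X 11 β) := by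
  apply conj_of_commute
  interval_cases r
  · exact (c_self 9 s c).mul_right ((c_9_10 s α).mul_right (c_9_11 s β))
  · exact ((c_9_10 c s).symm).mul_right ((c_self 10 s α).mul_right (c_10_11 s β))
  · exact ((c_9_11 c s).symm).mul_right (((c_10_11 α s).symm).mul_right (c_self 11 s β))

/-- `T` is stable under conjugation by the positive root elements -/
theorem X_conj_T {r : ℕ} (h6 : 6 ≤ r) (hr : r < 12) (s : F) {y : GL chevG2.Idx F} (hy : InT y) :
    InT (X r s * y * (X r s)⁻¹) := by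
  obtain ⟨c, α, β, hc, rfl⟩ := hy
  by_cases h9 : 9 ≤ r
  · rw [conj_ge9_T h9 hr]; exact ⟨c, α, β, hc, rfl⟩
  · have : r = 6 ∨ r = 7 ∨ r = 8 := by omega
    rcases this with rfl | rfl | rfl
    · rw [conj6_T]; exact ⟨c, α, _, hc, rfl⟩
    · rw [conj7_T]; exact ⟨c, _, β, hc, rfl⟩
    · rw [conj8_T]; exact ⟨c, α, _, hc, rfl⟩

/-- `T` is stable under conjugation by `H` -/
theorem diag_conj_T {h : GL chevG2.Idx F} (hh : h ∈ chevG2.diagonalSubgroup F)
    {y : GL chevG2.Idx F} (hy : InT y) : InT (h * y * h⁻¹) := by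
  obtain ⟨c, α, β, hc, rfl⟩ := hy
  obtain ⟨d, hd, hv, hconj⟩ := diag_conj_X hh
  rw [conj_mul3, hconj 9 (by norm_num), hconj 10 (by norm_num), hconj 11 (by norm_num)]
  exact ⟨_, _, _, mul_ne_zero (torChar_ne d hd 9) hc, rfl⟩

/-- the subgroup of the elements stabilising `T` -/
def stabT (F : Type*) [Field F] : Subgroup (GL chevG2.Idx F) where
  carrier := {g | ∀ y, InT y → InT (g * y * g⁻¹) ∧ InT (g⁻¹ * y * g)}
  one_mem' := by intro y hy; simpa using hy
  mul_mem' := by
    intro a b ha hb y hy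
    constructor
    · have := (ha _ (hb y hy).1).1
      have e : a * b * y * (a * b)⁻¹ = a * (b * y * b⁻¹) * a⁻¹ := by group
      rw [e]; exact this
    · have := (hb _ (ha y hy).2).2
      have e : (a * b)⁻¹ * y * (a * b) = b⁻¹ * (a⁻¹ * y * a) * b := by group
      rw [e]; exact this
  inv_mem' := by
    intro a ha y hy
    rw [inv_inv]
    exact ⟨(ha y hy).2, (ha y hy).1⟩

theorem borel_le_stabT : chevG2.borelSubgroup F ≤ stabT F := by
  unfold ChevalleyDatum.borelSubgroup
  apply sup_le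
  · apply U_le
    intro r h6 hr s y hy
    refine ⟨X_conj_T h6 hr s hy, ?_⟩
    have := X_conj_T h6 hr s hy
    rw [X_inv2] at this ⊢
    exact this
  · intro h hh y hy
    refine ⟨diag_conj_T hh hy, ?_⟩
    have := diag_conj_T (Subgroup.inv_mem _ hh) hy
    rwa [inv_inv] at this

theorem borel_conj_T {b : GL chevG2.Idx F} (hb : b ∈ chevG2.borelSubgroup F)
    {y : GL chevG2.Idx F} (hy : InT y) : InT (b * y * b⁻¹) :=
  (borel_le_stabT hb y hy).1

theorem borel_inv_conj_T {b : GL chevG2.Idx F} (hb : b ∈ chevG2.borelSubgroup F)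
    {y : GL chevG2.Idx F} (hy : InT y) : InT (b⁻¹ * y * b) :=
  (borel_le_stabT hb y hy).2

theorem inT_9 : InT (X 9 (1 : F)) :=
  ⟨1, 0, 0, one_ne_zero, by rw [X_zero, X_zero, mul_one, mul_one]⟩

end char2

end Cfsg.Agent.Helper6.G2Two
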