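import Mathlib
import Cfsg.Agent.Helper6.G2Two.CentShort

set_option autoImplicit false
set_option linter.unusedSectionVars false
set_option linter.unusedVariables false
set_option linter.unusedSimpArgs false

/-!
The centraliser of the short root involution `x_{2a+b}(1)` in `G₂(2ⁿ)`: the Weyl group part.
-/

namespace Cfsg.Agent.Helper6.G2Two

open Cfsg.Lie Cfsg.Agent.Helper6 Cfsg.Agent.Helper6.Ree

variable {F : Type*} [Field F]

theorem uge8_mem (a b c d : F) : X 8 a * X 9 b * (X 10 c * X 11 d) ∈ Uge chevG2 F 8 :=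
  Subgroup.mul_mem _ (Subgroup.mul_mem _ (X_mem_Uge le_rfl (by norm_num) _)
    (X_mem_Uge (by norm_num) (by norm_num) _))
    (Subgroup.mul_mem _ (X_mem_Uge (by norm_num) (by norm_num) _)
      (X_mem_Uge (by norm_num) (by norm_num) _))

/-- uniqueness of the coordinates in `U` -/
theorem U6_unique {a b c d e f a' b' c' d' e' f' : F}
    (h : X 6 a * (X 7 b * (X 8 c * X 9 d * (X 10 e * X 11 f))) =
      X 6 a' * (X 7 b' * (X 8 c' * X 9 d' * (X 10 e' * X 11 f')))) :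
    a = a' ∧ b = b' ∧ c = c' ∧ d = d' ∧ e = e' ∧ f = f' := by
  obtain ⟨h1, h2, h3⟩ := uge6_unique (uge8_mem c d e f) (uge8_mem c' d' e' f') h
  obtain ⟨h4, h5, h6, h7⟩ := uge8_unique h3
  exact ⟨h1, h2, h4, h5, h6, h7⟩

/-- existence of the coordinates in `U` -/
theorem U6_exists {g : GL chevG2.Idx F} (hg : g ∈ chevG2.posUnipotent F) :
    ∃ a b c d e f : F, g = X 6 a * (X 7 b * (X 8 c * X 9 d * (X 10 e * X 11 f))) := by
  obtain ⟨a, b, g', hg', rfl⟩ := uge6_exists hg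
  obtain ⟨c, d, e, f, rfl⟩ := uge8_exists hg'
  exact ⟨a, b, c, d, e, f, rfl⟩

theorem T_coord (c α β : F) : X 9 c * (X 10 α * X 11 β) =
    X 6 0 * (X 7 0 * (X 8 0 * X 9 c * (X 10 α * X 11 β))) := by
  simp only [X_zero, one_mul]

theorem inT_ne_one {y : GL chevG2.Idx F} (hy : InT y) : y ≠ 1 := by
  obtain ⟨c, α, β, hc, rfl⟩ := hy
  intro h
  have e : (1 : GL chevG2.Idx F) = X 6 0 * (X 7 0 * (X 8 0 * X 9 0 * (X 10 0 * X 11 0))) := by
    simp only [X_zero, mul_one]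
  rw [T_coord, e] at h
  exact hc (U6_unique h).2.2.2.1

theorem inT_mem_U {y : GL chevG2.Idx F} (hy : InT y) : y ∈ chevG2.posUnipotent F := by
  obtain ⟨c, α, β, hc, rfl⟩ := hy
  exact Subgroup.mul_mem _ (X_mem_U (by norm_num) (by norm_num) _)
    (Subgroup.mul_mem _ (X_mem_U (by norm_num) (by norm_num) _) (X_mem_U (by norm_num) (by norm_num) _))

theorem c_4_6 (t u : F) : Commute (X 4 t) (X 6 u) :=
  X_comm (by norm_num) (by norm_num) (by norm_num) (by norm_num) (by decide) t u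

/-- the images of the triple `(2a+b, 3a+b, 3a+2b)` under the Weyl group elements outside
`⟨w_b⟩` do not carry `T` into `T` -/
theorem triple_bad {r₉ r₁₀ r₁₁ : ℕ} (hmem : (r₉, r₁₀, r₁₁) ∈
    ([(8, 6, 11), (8, 11, 6), (7, 5, 10), (7, 10, 5), (4, 1, 6), (4, 6, 1),
      (3, 0, 5), (3, 5, 0), (2, 0, 1), (2, 1, 0)] : List (ℕ × ℕ × ℕ)))
    {c α β : F} (hc : c ≠ 0) {y : GL chevG2.Idx F} (hy : InT y)
    (h : X r₉ c * (X r₁₀ α * X r₁₁ β) = y) : False := by
  have hyU := inT_mem_U hy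
  have hy1 := inT_ne_one hy
  obtain ⟨c', α', β', hc', rfl⟩ := hy
  simp only [List.mem_cons, Prod.mk.injEq, List.mem_nil_iff, or_false] at hmem
  rcases hmem with ⟨rfl, rfl, rfl⟩ | ⟨rfl, rfl, rfl⟩ | ⟨rfl, rfl, rfl⟩ | ⟨rfl, rfl, rfl⟩ |
    ⟨rfl, rfl, rfl⟩ | ⟨rfl, rfl, rfl⟩ | ⟨rfl, rfl, rfl⟩ | ⟨rfl, rfl, rfl⟩ | ⟨rfl, rfl, rfl⟩ |
    ⟨rfl, rfl, rfl⟩
  · -- (8, 6, 11)
    have e1 : X 8 c * (X 6 α * X 11 β) =
        X 6 α * (X 7 0 * (X 8 c * X 9 0 * (X 10 0 * X 11 β))) := by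
      rw [X_zero, X_zero, X_zero, one_mul, mul_one, one_mul, ← mul_assoc, ← mul_assoc,
        (c_6_8 α c).eq]
    rw [e1, T_coord] at h
    exact hc (U6_unique h).2.2.1
  · -- (8, 11, 6)
    have e1 : X 8 c * (X 11 α * X 6 β) =
        X 6 β * (X 7 0 * (X 8 c * X 9 0 * (X 10 0 * X 11 α))) := by
      rw [X_zero, X_zero, X_zero, one_mul, mul_one, one_mul, ← mul_assoc (X 6 β),
        (c_6_8 β c).eq, mul_assoc, (c_6_11 β α).eq]
    rw [e1, T_coord] at h
    exact hc (U6_unique h).2.2.1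
  · -- (7, 5, 10)
    have h5 : X 5 α = (X 7 c)⁻¹ * (X 9 c' * (X 10 α' * X 11 β')) * (X 10 β)⁻¹ := by
      rw [← h]; group
    have hα : α = 0 := by
      apply X_neg_eq_zero (r := 5) (by norm_num)
      rw [h5]
      exact Subgroup.mul_mem _ (Subgroup.mul_mem _
        (Subgroup.inv_mem _ (X_mem_U (by norm_num) (by norm_num) _)) hyU)
        (Subgroup.inv_mem _ (X_mem_U (by norm_num) (by norm_num) _))
    have e1 : X 7 c * (X 5 α * X 10 β) =
        X 6 0 * (X 7 c * (X 8 0 * X 9 0 * (X 10 β * X 11 0))) := by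
      simp only [hα, X_zero, one_mul, mul_one]
    rw [e1, T_coord] at h
    exact hc (U6_unique h).2.1
  · -- (7, 10, 5)
    have h5 : X 5 β = (X 7 c * X 10 α)⁻¹ * (X 9 c' * (X 10 α' * X 11 β')) := by
      rw [← h]; group
    have hβ : β = 0 := by
      apply X_neg_eq_zero (r := 5) (by norm_num)
      rw [h5]
      exact Subgroup.mul_mem _ (Subgroup.inv_mem _ (Subgroup.mul_mem _
        (X_mem_U (by norm_num) (by norm_num) _) (X_mem_U (by norm_num) (by norm_num) _))) hyU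
    have e1 : X 7 c * (X 10 α * X 5 β) =
        X 6 0 * (X 7 c * (X 8 0 * X 9 0 * (X 10 α * X 11 0))) := by
      simp only [hβ, X_zero, one_mul, mul_one]
    rw [e1, T_coord] at h
    exact hc (U6_unique h).2.1
  · -- (4, 1, 6)
    have h41 : X 4 c * X 1 α = (X 9 c' * (X 10 α' * X 11 β')) * (X 6 β)⁻¹ := by
      rw [← h]; group
    have h1 : X 4 c * X 1 α = 1 := by
      apply UV_eq_one
      · rw [h41]
        exact Subgroup.mul_mem _ hyU (Subgroup.inv_mem _ (X_mem_U (by norm_num) (by norm_num) _))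
      · exact Subgroup.mul_mem _ (ReeCtx.X_mem_V (by norm_num) _) (ReeCtx.X_mem_V (by norm_num) _)
    have h2 : X 4 c = X 1 (-α) := by
      rw [← X_inv, eq_inv_iff_mul_eq_one, h1]
    exact hc (X_eq_X (by norm_num) (by norm_num) (by norm_num) h2)
  · -- (4, 6, 1)
    have h41 : X 4 c * X 1 β = (X 6 α)⁻¹ * (X 9 c' * (X 10 α' * X 11 β')) := by
      rw [← h, ← mul_assoc (X 4 c), (c_4_6 c α).eq]; group
    have h1 : X 4 c * X 1 β = 1 := by
      apply UV_eq_one
      · rw [h41]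
        exact Subgroup.mul_mem _ (Subgroup.inv_mem _ (X_mem_U (by norm_num) (by norm_num) _)) hyU
      · exact Subgroup.mul_mem _ (ReeCtx.X_mem_V (by norm_num) _) (ReeCtx.X_mem_V (by norm_num) _)
    have h2 : X 4 c = X 1 (-β) := by
      rw [← X_inv, eq_inv_iff_mul_eq_one, h1]
    exact hc (X_eq_X (by norm_num) (by norm_num) (by norm_num) h2)
  all_goals
    apply hy1
    apply UV_eq_one hyU
    rw [← h]
    exact Subgroup.mul_mem _ (ReeCtx.X_mem_V (by norm_num) _)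
      (Subgroup.mul_mem _ (ReeCtx.X_mem_V (by norm_num) _) (ReeCtx.X_mem_V (by norm_num) _))

end Cfsg.Agent.Helper6.G2Two
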