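import Mathlib
import Cfsg.Agent.Helper6.G2Two.CentShort2

set_option autoImplicit false
set_option linter.unusedSectionVars false
set_option linter.unusedVariables false
set_option linter.unusedSimpArgs false

/-!
The centraliser of the short root involution `x_{2a+b}(1)` in `G₂(2ⁿ)`: the main statement.
-/

namespace Cfsg.Agent.Helper6.G2Two

open Cfsg.Lie Cfsg.Agent.Helper6 Cfsg.Agent.Helper6.Ree

variable {F : Type*} [Field F]

/-- the subgroup `⟨X_{2a+b}, X_{3a+b}, X_{3a+2b}, X_b, X_{-b}⟩` -/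
abbrev Rsub (F : Type*) [Field F] : Subgroup (GL chevG2.Idx F) :=
  chevG2.rootSubgroup F 9 ⊔ chevG2.rootSubgroup F 10 ⊔ chevG2.rootSubgroup F 11 ⊔
    chevG2.rootSubgroup F 6 ⊔ chevG2.rootSubgroup F 5

theorem X9_mem_R (t : F) : X 9 t ∈ Rsub F :=
  Subgroup.mem_sup_left (Subgroup.mem_sup_left (Subgroup.mem_sup_left
    (Subgroup.mem_sup_left (X_mem_rootSub 9 t))))
theorem X10_mem_R (t : F) : X 10 t ∈ Rsub F :=
  Subgroup.mem_sup_left (Subgroup.mem_sup_left (Subgroup.mem_sup_left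
    (Subgroup.mem_sup_right (X_mem_rootSub 10 t))))
theorem X11_mem_R (t : F) : X 11 t ∈ Rsub F :=
  Subgroup.mem_sup_left (Subgroup.mem_sup_left (Subgroup.mem_sup_right (X_mem_rootSub 11 t)))
theorem X6_mem_R (t : F) : X 6 t ∈ Rsub F :=
  Subgroup.mem_sup_left (Subgroup.mem_sup_right (X_mem_rootSub 6 t))
theorem X5_mem_R (t : F) : X 5 t ∈ Rsub F :=
  Subgroup.mem_sup_right (X_mem_rootSub 5 t)

theorem X65_le_R : chevG2.rootSubgroup F 6 ⊔ chevG2.rootSubgroup F 5 ≤ Rsub F :=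
  sup_le (rootSub_le X6_mem_R) (rootSub_le X5_mem_R)

theorem borel_split {b : GL chevG2.Idx F} (hb : b ∈ chevG2.borelSubgroup F) :
    ∃ u ∈ chevG2.posUnipotent F, ∃ h ∈ chevG2.diagonalSubgroup F, b = u * h := by
  have Δ := bnG (F := F)
  have hb' : b ∈ ((chevG2.posUnipotent F ⊔ chevG2.diagonalSubgroup F :
      Subgroup (GL chevG2.Idx F)) : Set (GL chevG2.Idx F)) := hb
  rw [Subgroup.coe_mul_of_right_le_normalizer_left _ _
    (diagonal_le_normalizer_posUnipotent Δ.hB Δ.hAll Δ.hAdd Δ.hH), Set.mem_mul] at hb'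
  obtain ⟨u, hu, h, hh, rfl⟩ := hb'
  exact ⟨u, hu, h, hh, rfl⟩

section char2

variable [CharP F 2]

/-- conjugation of an element of `T` by an element of `U`, in coordinates -/
theorem conj_coord_T (a b c d e f χ α β : F) :
    (X 6 a * (X 7 b * (X 8 c * X 9 d * (X 10 e * X 11 f)))) * (X 9 χ * (X 10 α * X 11 β)) *
      (X 6 a * (X 7 b * (X 8 c * X 9 d * (X 10 e * X 11 f))))⁻¹ =
    X 9 χ * (X 10 (α + b * χ) * X 11 (β + c * χ + a * (α + b * χ))) := by
  have e : (X 6 a * (X 7 b * (X 8 c * X 9 d * (X 10 e * X 11 f)))) * (X 9 χ * (X 10 α * X 11 β)) *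
      (X 6 a * (X 7 b * (X 8 c * X 9 d * (X 10 e * X 11 f))))⁻¹ =
      X 6 a * (X 7 b * (X 8 c * (X 9 d * (X 10 e * (X 11 f * (X 9 χ * (X 10 α * X 11 β)) *
        (X 11 f)⁻¹) * (X 10 e)⁻¹) * (X 9 d)⁻¹) * (X 8 c)⁻¹) * (X 7 b)⁻¹) * (X 6 a)⁻¹ := by
    group
  rw [e, conj_ge9_T (by norm_num) (by norm_num), conj_ge9_T (by norm_num) (by norm_num),
    conj_ge9_T (by norm_num) (by norm_num), conj8_T, conj7_T, conj6_T]

/-- the elements of `B` centralising `x_{2a+b}(1)` -/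
theorem borel_cent_9 {b : GL chevG2.Idx F} (hb : b ∈ chevG2.borelSubgroup F)
    (hc : Commute b (X 9 1)) : b ∈ Rsub F := by
  obtain ⟨u₀, hu₀, h₀, hh₀, rfl⟩ := borel_split hb
  obtain ⟨d, hd, hv, hconj⟩ := diag_conj_X hh₀
  obtain ⟨a, b, c, d', e, f, rfl⟩ := U6_exists hu₀
  have h1 : X 6 a * (X 7 b * (X 8 c * X 9 d' * (X 10 e * X 11 f))) * h₀ * X 9 1 *
      (X 6 a * (X 7 b * (X 8 c * X 9 d' * (X 10 e * X 11 f))) * h₀)⁻¹ = X 9 1 :=
    conj_of_commute hc
  have h2 : X 6 a * (X 7 b * (X 8 c * X 9 d' * (X 10 e * X 11 f))) * h₀ * X 9 1 *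
      (X 6 a * (X 7 b * (X 8 c * X 9 d' * (X 10 e * X 11 f))) * h₀)⁻¹ =
      X 6 a * (X 7 b * (X 8 c * X 9 d' * (X 10 e * X 11 f))) * (h₀ * X 9 1 * h₀⁻¹) *
      (X 6 a * (X 7 b * (X 8 c * X 9 d' * (X 10 e * X 11 f))))⁻¹ := by group
  rw [h2, hconj 9 (by norm_num), torChar_9, mul_one] at h1
  have h3 : X 9 (d 0) = X 9 (d 0) * (X 10 0 * X 11 0) := by
    rw [X_zero, X_zero, mul_one, mul_one]
  have h4 : X 9 (1 : F) = X 9 1 * (X 10 0 * X 11 0) := by
    rw [X_zero, X_zero, mul_one, mul_one]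
  rw [h3, conj_coord_T, h4, T_coord, T_coord] at h1
  obtain ⟨-, -, -, k1, k2, k3⟩ := U6_unique h1
  rw [k1, mul_one, zero_add] at k2
  rw [k1, mul_one, zero_add, mul_one, k2] at k3
  have k3' : c = 0 := by simpa using k3
  subst k2 k3'
  apply Subgroup.mul_mem
  · rw [X_zero, X_zero, one_mul, one_mul]
    exact Subgroup.mul_mem _ (X6_mem_R _) (Subgroup.mul_mem _ (X9_mem_R _)
      (Subgroup.mul_mem _ (X10_mem_R _) (X11_mem_R _)))
  · exact X65_le_R (torMat_mem_6 hd hv k1)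

theorem nWr_one_mem_R : nWr hB2 F [1] ∈ Rsub F := by
  rw [nWr_one_eq]
  exact Subgroup.mul_mem _ (Subgroup.mul_mem _ (X6_mem_R _) (X5_mem_R _)) (X6_mem_R _)

theorem nWr_one_comm_9 (t : F) : Commute (nWr hB2 F [1]) (X 9 t) := by
  rw [nWr_one_eq]
  exact ((c_6_9 _ _).mul_left (c_5_9 _ _)).mul_left (c_6_9 _ _)

/-- **the centraliser of a short root involution**, one inclusion -/
theorem short_cent_le {g : GL chevG2.Idx F} (hg : g ∈ chevG2.group F)
    (hc : Commute g (X 9 1)) : g ∈ Rsub F := by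
  have Δ := bnG (F := F)
  obtain ⟨u₁, hu₁, n, hn, u, hu, rfl⟩ := Δ.unu_exists hg
  have huU : u ∈ chevG2.posUnipotent F := ((Δ.mem_Un_iff hn).1 hu).1
  have ht' : InT (u * X 9 1 * u⁻¹) := borel_conj_T (Δ.posUnipotent_le_borel huU) inT_9
  have ht'' : InT (u₁⁻¹ * X 9 1 * u₁) := borel_inv_conj_T (Δ.posUnipotent_le_borel hu₁) inT_9
  have hn1 : n * (u * X 9 1 * u⁻¹) * n⁻¹ = u₁⁻¹ * X 9 1 * u₁ := by
    have h1 : u₁ * n * u * X 9 1 * (u₁ * n * u)⁻¹ = X 9 1 := conj_of_commute hc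
    calc n * (u * X 9 1 * u⁻¹) * n⁻¹ = u₁⁻¹ * (u₁ * n * u * X 9 1 * (u₁ * n * u)⁻¹) * u₁ := by group
      _ = _ := by rw [h1]
  obtain ⟨L, hL, h, hh, rfl⟩ := monomial_eq_word hn
  have ht3 : InT (h * (u * X 9 1 * u⁻¹) * h⁻¹) := diag_conj_T hh ht'
  obtain ⟨c, α, β, hc0, e3⟩ := ht3
  have hn2 : X (wFr chevG2 L 9) c * (X (wFr chevG2 L 10) α * X (wFr chevG2 L 11) β) =
      u₁⁻¹ * X 9 1 * u₁ := by
    rw [← hn1]
    calc X (wFr chevG2 L 9) c * (X (wFr chevG2 L 10) α * X (wFr chevG2 L 11) β)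
        = nWr hB2 F L * (X 9 c * (X 10 α * X 11 β)) * (nWr hB2 F L)⁻¹ := by
          rw [conj_mul3, nWr_conj2 hL (by norm_num), nWr_conj2 hL (by norm_num),
            nWr_conj2 hL (by norm_num)]
      _ = nWr hB2 F L * (h * (u * X 9 1 * u⁻¹) * h⁻¹) * (nWr hB2 F L)⁻¹ := by rw [e3]
      _ = _ := by group
  have hp := permW_mem L hL
  have htr := triple9 _ hp
  rw [permW_getD L (by norm_num), permW_getD L (by norm_num), permW_getD L (by norm_num)] at htr
  have h9 : wFr chevG2 L 9 = 9 := by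
    simp only [List.mem_cons, Prod.mk.injEq, List.mem_nil_iff, or_false] at htr
    rcases htr with ⟨k1, -, -⟩ | ⟨k1, -, -⟩ | hbad
    · exact k1
    · exact k1
    · exfalso
      refine triple_bad (r₉ := wFr chevG2 L 9) (r₁₀ := wFr chevG2 L 10) (r₁₁ := wFr chevG2 L 11)
        ?_ hc0 ht'' hn2
      simp only [List.mem_cons, Prod.mk.injEq, List.mem_nil_iff, or_false]
      exact hbad
  have hp9 : (permW L).getD 9 0 = 9 := by rw [permW_getD L (by norm_num), h9]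
  rcases fix9 _ hp hp9 with ⟨k7, k6⟩ | ⟨k7, k6⟩
  · rw [permW_getD L (by norm_num)] at k7 k6
    obtain ⟨d, hd, hdL⟩ := word_eq_of_key (F := F) (L := L) (L' := []) hL (by simp)
      (by rw [k7, wFr_nil]) (by rw [k6, wFr_nil])
    rw [nWr_nil, one_mul] at hdL
    apply borel_cent_9 _ hc
    rw [hdL]
    exact Subgroup.mul_mem _ (Subgroup.mul_mem _ (Δ.posUnipotent_le_borel hu₁)
      (Δ.diag_le_borel (Subgroup.mul_mem _ hd hh))) (Δ.posUnipotent_le_borel huU)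
  · rw [permW_getD L (by norm_num)] at k7 k6
    obtain ⟨d, hd, hdL⟩ := word_eq_of_key (F := F) (L := L) (L' := [1]) hL (by simp)
      (by rw [k7, wFr_one1.1]) (by rw [k6, wFr_one1.2])
    have hi : (1 : ℕ) < chevG2.rank := by decide
    obtain ⟨v, hv, s, hvs⟩ := Δ.U_decomp hi hu₁
    have hs1 : chevG2.simple 1 = 6 := rfl
    have hvs' : u₁ = v * X 6 s := hvs
    -- `k = x_b(s) n_b`
    set k : GL chevG2.Idx F := X 6 s * nWr hB2 F [1] with hk
    have hkR : k ∈ Rsub F := Subgroup.mul_mem _ (X6_mem_R _) nWr_one_mem_R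
    have hkc : Commute k (X 9 (1 : F)) := (c_6_9 _ _).mul_left (nWr_one_comm_9 _)
    -- `v' = k⁻¹ v k ∈ U`
    have hv1 : X 6 s * v * (X 6 s)⁻¹ ∈ Uexc chevG2 F (chevG2.simple 1) := by
      have hnorm := rootSubgroup_sup_le_normalizer_Uexc (F := F) Δ.hB Δ.hF (Δ.hR 1 hi) Δ.hC
        Δ.hsign' (Δ.hAll 1 hi).hS.1 (Δ.hpN 1 hi) (Δ.hnp hi)
      have h6 : X 6 s ∈ chevG2.rootSubgroup F (chevG2.simple 1) ⊔
          chevG2.rootSubgroup F (chevG2.neg (chevG2.simple 1)) :=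
        Subgroup.mem_sup_left (X_mem_rootSub 6 s)
      exact ((Subgroup.mem_normalizer_iff.1 (hnorm h6)) v).1 hv
    have hv2 : k⁻¹ * v * k ∈ chevG2.posUnipotent F := by
      apply Δ.Uexc_le_U hi
      have e : k⁻¹ * v * k = (nU Δ.hB (chevG2.simple 1) (one_ne_zero (α := F)))⁻¹ *
          (X 6 s * v * (X 6 s)⁻¹) * nU Δ.hB (chevG2.simple 1) (one_ne_zero (α := F)) := by
        rw [hk, nWr_one]
        conv_rhs => rw [X_inv2]
        have : (X 6 s * nU hB2 (chevG2.simple 1) (one_ne_zero (α := F)))⁻¹ =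
            (nU hB2 (chevG2.simple 1) (one_ne_zero (α := F)))⁻¹ * X 6 s := by
          rw [mul_inv_rev, X_inv2]
        rw [this]
        group
      rw [e]
      exact Δ.nU_inv_conj_Uexc hi hv1
    -- `g = k b'`
    have e : u₁ * (nWr hB2 F L * h) * u = k * (k⁻¹ * v * k * (d * h) * u) := by
      rw [hvs', hdL, hk]; group
    have hb' : k⁻¹ * v * k * (d * h) * u ∈ chevG2.borelSubgroup F :=
      Subgroup.mul_mem _ (Subgroup.mul_mem _ (Δ.posUnipotent_le_borel hv2)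
        (Δ.diag_le_borel (Subgroup.mul_mem _ hd hh))) (Δ.posUnipotent_le_borel huU)
    have hbc : Commute (k⁻¹ * v * k * (d * h) * u) (X 9 (1 : F)) := by
      have e2 : k⁻¹ * v * k * (d * h) * u = k⁻¹ * (u₁ * (nWr hB2 F L * h) * u) := by
        rw [e]; group
      rw [e2]
      exact hkc.inv_left.mul_left hc
    rw [e]
    exact Subgroup.mul_mem _ hkR (borel_cent_9 hb' hbc)

/-- **the centraliser of a short root involution**, the other inclusion -/
theorem short_cent_ge : Rsub F ≤ chevG2.group F ⊓ Subgroup.centralizer {X 9 (1 : F)} := by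
  have key : ∀ r < 12, (∀ t : F, Commute (X r t) (X 9 1)) → chevG2.rootSubgroup F r ≤
      chevG2.group F ⊓ Subgroup.centralizer {X 9 (1 : F)} := by
    intro r hr hcomm
    apply rootSub_le
    intro t
    refine Subgroup.mem_inf.2 ⟨X_mem_group hr t, ?_⟩
    rw [Subgroup.mem_centralizer_iff]
    intro y hy
    rw [Set.mem_singleton_iff] at hy
    subst hy
    exact (hcomm t).eq.symm
  refine sup_le (sup_le (sup_le (sup_le ?_ ?_) ?_) ?_) ?_
  · exact key 9 (by norm_num) (fun t => c_self 9 t 1)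
  · exact key 10 (by norm_num) (fun t => (c_9_10 1 t).symm)
  · exact key 11 (by norm_num) (fun t => (c_9_11 1 t).symm)
  · exact key 6 (by norm_num) (fun t => c_6_9 t 1)
  · exact key 5 (by norm_num) (fun t => c_5_9 t 1)

theorem short_cent : chevG2.group F ⊓ Subgroup.centralizer {X 9 (1 : F)} = Rsub F := by
  apply le_antisymm _ short_cent_ge
  intro g hgc
  obtain ⟨hg, hc⟩ := Subgroup.mem_inf.1 hgc
  rw [Subgroup.mem_centralizer_iff] at hc
  exact short_cent_le hg (hc _ rfl).symm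

end char2

end Cfsg.Agent.Helper6.G2Two
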