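import Mathlib
import Cfsg.Agent.Helper6.G2Two.CentShort3

set_option autoImplicit false
set_option linter.unusedSectionVars false
set_option linter.unusedVariables false
set_option linter.unusedSimpArgs false

/-!
Collection rules in `U ≤ G₂(2ⁿ)` and the multiplication formula in coordinates.
-/

namespace Cfsg.Agent.Helper6.G2Two

open Cfsg.Lie Cfsg.Agent.Helper6 Cfsg.Agent.Helper6.Ree

variable {F : Type*} [Field F]

/-- the element of `U` with given coordinates -/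
def M (a b c d e f : F) : GL chevG2.Idx F :=
  X 6 a * (X 7 b * (X 8 c * (X 9 d * (X 10 e * X 11 f))))

theorem Xa (r : ℕ) (a b : F) (g : GL chevG2.Idx F) : X r a * (X r b * g) = X r (a + b) * g := by
  rw [← mul_assoc, X_add]

theorem gl_assoc (a b c : GL chevG2.Idx F) : a * b * c = a * (b * c) := mul_assoc a b c

/-- tail form of a swap rule -/
theorem tail_of {G : Type*} [Group G] {A B C : G} (h : A * B = B * C) (g : G) :
    A * (B * g) = B * (C * g) := by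
  rw [← mul_assoc, h, mul_assoc]

theorem M_ext {a b c d e f a' b' c' d' e' f' : F} (h1 : a = a') (h2 : b = b') (h3 : c = c')
    (h4 : d = d') (h5 : e = e') (h6 : f = f') :
    X 6 a * (X 7 b * (X 8 c * (X 9 d * (X 10 e * X 11 f)))) =
      X 6 a' * (X 7 b' * (X 8 c' * (X 9 d' * (X 10 e' * X 11 f')))) := by
  subst h1 h2 h3 h4 h5 h6
  rfl

section char2

variable [CharP F 2]

theorem s86 (t u : F) : X 8 t * X 6 u = X 6 u * X 8 t := (c_6_8 u t).eq.symm
theorem s96 (t u : F) : X 9 t * X 6 u = X 6 u * X 9 t := (c_6_9 u t).eq.symm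
theorem s11_6 (t u : F) : X 11 t * X 6 u = X 6 u * X 11 t := (c_6_11 u t).eq.symm
theorem s10_7 (t u : F) : X 10 t * X 7 u = X 7 u * X 10 t := (c_7_10 u t).eq.symm
theorem s11_7 (t u : F) : X 11 t * X 7 u = X 7 u * X 11 t := (c_7_11 u t).eq.symm
theorem s10_8 (t u : F) : X 10 t * X 8 u = X 8 u * X 10 t := (c_8_10 u t).eq.symm
theorem s11_8 (t u : F) : X 11 t * X 8 u = X 8 u * X 11 t := (c_8_11 u t).eq.symm
theorem s10_9 (t u : F) : X 10 t * X 9 u = X 9 u * X 10 t := (c_9_10 u t).eq.symm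
theorem s11_9 (t u : F) : X 11 t * X 9 u = X 9 u * X 11 t := (c_9_11 u t).eq.symm
theorem s11_10 (t u : F) : X 11 t * X 10 u = X 10 u * X 11 t := (c_10_11 u t).eq.symm

theorem s10_6 (t u : F) : X 10 t * X 6 u = X 6 u * (X 10 t * X 11 (u * t)) := by
  rw [c10_6, mul_assoc]
theorem s97 (t u : F) : X 9 t * X 7 u = X 7 u * (X 9 t * X 10 (u * t)) := by
  rw [c97, mul_assoc]
theorem s98 (t u : F) : X 9 t * X 8 u = X 8 u * (X 9 t * X 11 (u * t)) := by
  rw [c98, mul_assoc]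
theorem s87 (t u : F) : X 8 t * X 7 u = X 7 u * (X 8 t * (X 10 (u ^ 2 * t) * X 11 (u * t ^ 2))) := by
  rw [c87, mul_assoc]

theorem s76 (t u : F) : X 7 t * X 6 u =
    X 6 u * (X 7 t * (X 8 (t * u) * (X 9 (t ^ 2 * u) * X 10 (t ^ 3 * u)))) := by
  have h := c67 t u
  -- `K⁻¹ = x₈(tu) x₉(t²u) x₁₀(t³u)`
  have hK : (X 8 (t * u) * (X 9 (t ^ 2 * u) * (X 10 (t ^ 3 * u) * X 11 (t ^ 3 * u ^ 2)))) *
      (X 8 (t * u) * (X 9 (t ^ 2 * u) * X 10 (t ^ 3 * u))) = 1 := by
    simp only [gl_assoc, X_add, Xa, s98, tail_of (s98 _ _), s10_8, tail_of (s10_8 _ _), s11_8,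
      tail_of (s11_8 _ _), s10_9, tail_of (s10_9 _ _), s11_9, tail_of (s11_9 _ _), s11_10,
      tail_of (s11_10 _ _)]
    have e2 : t * u * (t ^ 2 * u) + t ^ 3 * u ^ 2 = 0 := by
      have : t * u * (t ^ 2 * u) = t ^ 3 * u ^ 2 := by ring
      rw [this, CharTwo.add_self_eq_zero]
    rw [e2]
    simp only [CharTwo.add_self_eq_zero, X_zero, mul_one]
  have hK' : (X 8 (t * u) * (X 9 (t ^ 2 * u) * (X 10 (t ^ 3 * u) * X 11 (t ^ 3 * u ^ 2))))⁻¹ =
      X 8 (t * u) * (X 9 (t ^ 2 * u) * X 10 (t ^ 3 * u)) := inv_eq_of_mul_eq_one_right hK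
  have h' : X 7 t * X 6 u = X 6 u * X 7 t *
      (X 8 (t * u) * (X 9 (t ^ 2 * u) * (X 10 (t ^ 3 * u) * X 11 (t ^ 3 * u ^ 2))))⁻¹ := by
    rw [h]; group
  rw [h', hK', mul_assoc]

/-- the multiplication formula in `U` -/
theorem mulU (a b c d e f a' b' c' d' e' f' : F) :
    M a b c d e f * M a' b' c' d' e' f' =
      M (a + a') (b + b') (c + c' + a' * b) (d + d' + a' * b ^ 2)
        (e + e' + a' * b ^ 3 + b' ^ 2 * (c + a' * b) + b' * (d + a' * b ^ 2))
        (f + f' + a' * e + a' * b ^ 2 * c + b' * (c + a' * b) ^ 2 + c' * (d + a' * b ^ 2)) := by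
  unfold M
  simp only [gl_assoc, X_add, Xa, s76, tail_of (s76 _ _), s86, tail_of (s86 _ _), s96,
    tail_of (s96 _ _), s10_6, tail_of (s10_6 _ _), s11_6, tail_of (s11_6 _ _), s87,
    tail_of (s87 _ _), s97, tail_of (s97 _ _), s10_7, tail_of (s10_7 _ _), s11_7,
    tail_of (s11_7 _ _), s98, tail_of (s98 _ _), s10_8, tail_of (s10_8 _ _), s11_8,
    tail_of (s11_8 _ _), s10_9, tail_of (s10_9 _ _), s11_9, tail_of (s11_9 _ _), s11_10,
    tail_of (s11_10 _ _)]
  have h2 : (2 : F) = 0 := CharTwo.two_eq_zero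
  refine M_ext rfl rfl ?_ ?_ ?_ ?_
  · ring
  · ring
  · ring
  · linear_combination (-(a' * b * b' * c)) * h2

end char2

end Cfsg.Agent.Helper6.G2Two
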