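import Mathlib
import Cfsg.Agent.Helper6.G2Two.Sort

set_option autoImplicit false
set_option linter.unusedSectionVars false
set_option linter.unusedVariables false
set_option linter.unusedSimpArgs false

/-!
Involutions of `U ≤ G₂(2ⁿ)` in coordinates; conjugation by positive root elements.
-/

namespace Cfsg.Agent.Helper6.G2Two

open Cfsg.Lie Cfsg.Agent.Helper6 Cfsg.Agent.Helper6.Ree

variable {F : Type*} [Field F]

theorem M_unique {a b c d e f a' b' c' d' e' f' : F}
    (h : M a b c d e f = M a' b' c' d' e' f') :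
    a = a' ∧ b = b' ∧ c = c' ∧ d = d' ∧ e = e' ∧ f = f' := by
  unfold M at h
  apply U6_unique
  simpa only [mul_assoc] using h

theorem M_exists {g : GL chevG2.Idx F} (hg : g ∈ chevG2.posUnipotent F) :
    ∃ a b c d e f : F, g = M a b c d e f := by
  obtain ⟨a, b, c, d, e, f, rfl⟩ := U6_exists hg
  exact ⟨a, b, c, d, e, f, by unfold M; simp only [mul_assoc]⟩

theorem M_mem_U (a b c d e f : F) : M a b c d e f ∈ chevG2.posUnipotent F := by
  unfold M
  exact Subgroup.mul_mem _ (X_mem_U (by norm_num) (by norm_num) _)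
    (Subgroup.mul_mem _ (X_mem_U (by norm_num) (by norm_num) _)
      (Subgroup.mul_mem _ (X_mem_U (by norm_num) (by norm_num) _)
        (Subgroup.mul_mem _ (X_mem_U (by norm_num) (by norm_num) _)
          (Subgroup.mul_mem _ (X_mem_U (by norm_num) (by norm_num) _)
            (X_mem_U (by norm_num) (by norm_num) _)))))

theorem M_zero : M (0 : F) 0 0 0 0 0 = 1 := by
  unfold M; simp only [X_zero, mul_one]

theorem M6 (s : F) : X 6 s = M s 0 0 0 0 0 := by unfold M; simp only [X_zero, mul_one]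
theorem M7 (s : F) : X 7 s = M 0 s 0 0 0 0 := by unfold M; simp only [X_zero, mul_one, one_mul]
theorem M8 (s : F) : X 8 s = M 0 0 s 0 0 0 := by unfold M; simp only [X_zero, mul_one, one_mul]
theorem M9 (s : F) : X 9 s = M 0 0 0 s 0 0 := by unfold M; simp only [X_zero, mul_one, one_mul]
theorem M10 (s : F) : X 10 s = M 0 0 0 0 s 0 := by unfold M; simp only [X_zero, mul_one, one_mul]
theorem M11 (s : F) : X 11 s = M 0 0 0 0 0 s := by unfold M; simp only [X_zero, mul_one, one_mul]

theorem M_congr {a b c d e f a' b' c' d' e' f' : F} (h1 : a = a') (h2 : b = b') (h3 : c = c')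
    (h4 : d = d') (h5 : e = e') (h6 : f = f') : M a b c d e f = M a' b' c' d' e' f' := by
  subst h1 h2 h3 h4 h5 h6
  rfl

/-- conjugacy in the Chevalley group -/
def Cj (g g' : GL chevG2.Idx F) : Prop := ∃ h ∈ chevG2.group F, h * g * h⁻¹ = g'

theorem Cj.refl (g : GL chevG2.Idx F) : Cj g g := ⟨1, Subgroup.one_mem _, by group⟩

theorem Cj.trans {g₁ g₂ g₃ : GL chevG2.Idx F} (h1 : Cj g₁ g₂) (h2 : Cj g₂ g₃) : Cj g₁ g₃ := by
  obtain ⟨h, hh, rfl⟩ := h1
  obtain ⟨k, hk, rfl⟩ := h2
  exact ⟨k * h, Subgroup.mul_mem _ hk hh, by group⟩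

theorem Cj.of_eq {g₁ g₂ : GL chevG2.Idx F} (h : g₁ = g₂) : Cj g₁ g₂ := h ▸ Cj.refl g₁

theorem Cj.conj {h : GL chevG2.Idx F} (hh : h ∈ chevG2.group F) (g : GL chevG2.Idx F) :
    Cj g (h * g * h⁻¹) := ⟨h, hh, rfl⟩

section char2

variable [CharP F 2]

theorem add_self2 (x : F) : x + x = 0 := CharTwo.add_self_eq_zero x

/-- the conditions for an element of `U` to be an involution -/
theorem invol_cond {a b c d e f : F} (h : M a b c d e f * M a b c d e f = 1) :
    a * b = 0 ∧ a * b ^ 3 + b ^ 2 * (c + a * b) + b * (d + a * b ^ 2) = 0 ∧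
      a * e + a * b ^ 2 * c + b * (c + a * b) ^ 2 + c * (d + a * b ^ 2) = 0 := by
  rw [mulU, ← M_zero] at h
  obtain ⟨-, -, h3, -, h5, h6⟩ := M_unique h
  rw [add_self2, zero_add] at h3 h5 h6
  exact ⟨h3, h5, h6⟩

/-- conjugation by `x_b(s)` in coordinates -/
theorem conjM6 (s a b c d e f : F) : X 6 s * M a b c d e f * (X 6 s)⁻¹ =
    M a b (c + s * b) (d + s * b ^ 2) (e + s * b ^ 3) (f + s * e + s * b ^ 2 * c) := by
  have h2 : (2 : F) = 0 := CharTwo.two_eq_zero
  rw [X_inv2, M6, mulU, mulU]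
  apply M_congr
  · linear_combination s * h2
  · ring
  · ring
  · ring
  · ring
  · ring

/-- conjugation by `x_a(s)` in coordinates -/
theorem conjM7 (s a b c d e f : F) : X 7 s * M a b c d e f * (X 7 s)⁻¹ =
    M a b (c + a * s) (d + a * s ^ 2) (e + s ^ 2 * c + s * d + a * s ^ 3 + a * b ^ 2 * s + a * b * s ^ 2)
      (f + c * a * s ^ 2 + s * (c + a * s) ^ 2 + b * a ^ 2 * s ^ 2) := by
  have h2 : (2 : F) = 0 := CharTwo.two_eq_zero
  rw [X_inv2, M7, mulU, mulU]
  apply M_congr
  · ring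
  · linear_combination s * h2
  · ring
  · ring
  · linear_combination (a * s ^ 3) * h2
  · ring

/-- conjugation by `x_{a+b}(s)` in coordinates -/
theorem conjM8 (s a b c d e f : F) : X 8 s * M a b c d e f * (X 8 s)⁻¹ =
    M a b c d (e + b ^ 2 * s) (f + b * s ^ 2 + s * d) := by
  have h2 : (2 : F) = 0 := CharTwo.two_eq_zero
  rw [X_inv2, M8, mulU, mulU]
  apply M_congr
  · ring
  · ring
  · linear_combination s * h2
  · ring
  · ring
  · ring

/-- conjugation by `x_{2a+b}(s)` in coordinates -/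
theorem conjM9 (s a b c d e f : F) : X 9 s * M a b c d e f * (X 9 s)⁻¹ =
    M a b c d (e + b * s) (f + c * s) := by
  have h2 : (2 : F) = 0 := CharTwo.two_eq_zero
  rw [X_inv2, M9, mulU, mulU]
  apply M_congr
  · ring
  · ring
  · ring
  · linear_combination s * h2
  · ring
  · ring

/-- conjugation by `x_{3a+b}(s)` in coordinates -/
theorem conjM10 (s a b c d e f : F) : X 10 s * M a b c d e f * (X 10 s)⁻¹ =
    M a b c d e (f + a * s) := by
  have h2 : (2 : F) = 0 := CharTwo.two_eq_zero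
  rw [X_inv2, M10, mulU, mulU]
  apply M_congr
  · ring
  · ring
  · ring
  · ring
  · linear_combination s * h2
  · ring

theorem Cj_X {r : ℕ} (hr : r < 12) (s : F) (g : GL chevG2.Idx F) :
    Cj g (X r s * g * (X r s)⁻¹) := Cj.conj (X_mem_group hr s) g

end char2

end Cfsg.Agent.Helper6.G2Two
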