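import Mathlib
import Cfsg.Agent.Helper6.G2Two.Invol1

set_option autoImplicit false
set_option linter.unusedSectionVars false
set_option linter.unusedVariables false
set_option linter.unusedSimpArgs false

/-!
Conjugacy of root elements of `G₂(2ⁿ)` under `N`, and the mixed elements.
-/

namespace Cfsg.Agent.Helper6.G2Two

open Cfsg.Lie Cfsg.Agent.Helper6 Cfsg.Agent.Helper6.Ree

variable {F : Type*} [Field F]

theorem Cj.symm {g₁ g₂ : GL chevG2.Idx F} (h : Cj g₁ g₂) : Cj g₂ g₁ := by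
  obtain ⟨k, hk, rfl⟩ := h
  exact ⟨k⁻¹, Subgroup.inv_mem _ hk, by group⟩

/-- a torus element with prescribed parameters -/
theorem exists_torus {x y : F} (hx : x ≠ 0) (hy : y ≠ 0) :
    ∃ h ∈ chevG2.group F, ∀ r < 12, ∀ t : F,
      h * X r t * h⁻¹ = X r (x ^ chevG2.cartan 0 r * y ^ chevG2.cartan 1 r * t) := by
  have Δ := bnG (F := F)
  let d : ℕ → F := fun i => if i = 0 then x else y
  have hd : ∀ i, d i ≠ 0 := by
    intro i
    simp only [d]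
    split_ifs
    · exact hx
    · exact hy
  let h : GL chevG2.Idx F := ⟨torMat chevG2 F d, torMat chevG2 F (fun i => (d i)⁻¹), by
      rw [torMat_mul]
      have : (fun i => d i * (d i)⁻¹) = fun _ => (1 : F) := by
        funext i; exact mul_inv_cancel₀ (hd i)
      rw [this, torMat_one], by
      rw [torMat_mul]
      have : (fun i => (d i)⁻¹ * d i) = fun _ => (1 : F) := by
        funext i; exact inv_mul_cancel₀ (hd i)
      rw [this, torMat_one]⟩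
  have hv : (h : Matrix chevG2.Idx chevG2.Idx F) = torMat chevG2 F d := rfl
  have hH : h ∈ chevG2.diagonalSubgroup F :=
    mem_diagonal_of_val_eq_torMat Δ.hB Δ.hAll (fun i _ => hd i) hv
  refine ⟨h, H_le_group hH, ?_⟩
  intro r hr t
  rw [mul_inv_eq_iff_eq_mul]
  apply Units.ext
  rw [Units.val_mul, Units.val_mul, hv, X_val, X_val]
  have := torMat_mul_x Δ.hB Δ.hAdd hd hr t
  rw [torChar_g2] at this
  exact this

theorem cartan_vals : chevG2.cartan 0 11 = 0 ∧ chevG2.cartan 1 11 = 1 ∧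
    chevG2.cartan 0 9 = 1 ∧ chevG2.cartan 1 9 = 0 := by decide

/-- `x_{3a+2b}(a) ∼ x_{3a+2b}(1)` -/
theorem Cj_11 {a : F} (ha : a ≠ 0) : Cj (X 11 a) (X 11 1) := by
  obtain ⟨h, hh, hc⟩ := exists_torus (F := F) (one_ne_zero) (inv_ne_zero ha)
  refine ⟨h, hh, ?_⟩
  rw [hc 11 (by norm_num), cartan_vals.1, cartan_vals.2.1, zpow_zero, zpow_one, one_mul,
    inv_mul_cancel₀ ha]

/-- `x_{2a+b}(a) ∼ x_{2a+b}(1)` -/
theorem Cj_9 {a : F} (ha : a ≠ 0) : Cj (X 9 a) (X 9 1) := by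
  obtain ⟨h, hh, hc⟩ := exists_torus (F := F) (inv_ne_zero ha) (one_ne_zero)
  refine ⟨h, hh, ?_⟩
  rw [hc 9 (by norm_num), cartan_vals.2.2.1, cartan_vals.2.2.2, zpow_zero, zpow_one, mul_one,
    inv_mul_cancel₀ ha]

section char2

variable [CharP F 2]

theorem nWr_mem_group {L : List ℕ} (hL : ∀ j ∈ L, j < 2) : nWr hB2 F L ∈ chevG2.group F :=
  N_le_group ((bnG (F := F)).nWr_mem_monomial hL)

theorem wFr_vals : wFr chevG2 [0, 1] 6 = 11 ∧ wFr chevG2 [1] 10 = 11 ∧ wFr chevG2 [1, 0] 7 = 9 ∧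
    wFr chevG2 [0] 8 = 9 ∧ wFr chevG2 [0] 10 = 6 ∧ wFr chevG2 [1] 8 = 7 := by decide

theorem Cj_6 {a : F} (ha : a ≠ 0) : Cj (X 6 a) (X 11 1) := by
  refine Cj.trans ⟨nWr hB2 F [0, 1], nWr_mem_group (by decide), ?_⟩ (Cj_11 ha)
  rw [nWr_conj2 (by decide) (by norm_num), wFr_vals.1]

theorem Cj_10 {a : F} (ha : a ≠ 0) : Cj (X 10 a) (X 11 1) := by
  refine Cj.trans ⟨nWr hB2 F [1], nWr_mem_group (by decide), ?_⟩ (Cj_11 ha)
  rw [nWr_conj2 (by decide) (by norm_num), wFr_vals.2.1]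

theorem Cj_7 {a : F} (ha : a ≠ 0) : Cj (X 7 a) (X 9 1) := by
  refine Cj.trans ⟨nWr hB2 F [1, 0], nWr_mem_group (by decide), ?_⟩ (Cj_9 ha)
  rw [nWr_conj2 (by decide) (by norm_num), wFr_vals.2.2.1]

theorem Cj_8 {a : F} (ha : a ≠ 0) : Cj (X 8 a) (X 9 1) := by
  refine Cj.trans ⟨nWr hB2 F [0], nWr_mem_group (by decide), ?_⟩ (Cj_9 ha)
  rw [nWr_conj2 (by decide) (by norm_num), wFr_vals.2.2.2.1]

/-- the mixed elements `x_{a+b}(c) x_{3a+b}(e)` are conjugate to `x_{a+b}(c)` -/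
theorem Cj_mixed_8_10 [Finite F] {c : F} (hc : c ≠ 0) (e : F) : Cj (X 8 c * X 10 e) (X 8 c) := by
  apply Cj.symm
  obtain ⟨s, hs⟩ := FiniteField.isSquare_of_char_two (F := F) (ringChar.eq F 2) (e / c)
  have h1 : X 7 s * X 8 c * (X 7 s)⁻¹ = M 0 0 c 0 (s ^ 2 * c) (s * c ^ 2) := by
    rw [M8, conjM7]
    apply M_congr <;> ring
  have h2 : X 9 (s * c) * M 0 0 c 0 (s ^ 2 * c) (s * c ^ 2) * (X 9 (s * c))⁻¹ =
      X 8 c * X 10 e := by
    rw [conjM9]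
    have e1 : s * c ^ 2 + c * (s * c) = 0 := by
      have : c * (s * c) = s * c ^ 2 := by ring
      rw [this, add_self2]
    have e2 : s ^ 2 * c + 0 * (s * c) = e := by
      rw [zero_mul, add_zero, pow_two, ← hs, div_mul_cancel₀ _ hc]
    rw [e1, e2]
    unfold M
    simp only [X_zero, one_mul, mul_one]
  refine Cj.trans (Cj_X (r := 7) (by norm_num) s _) ?_
  rw [h1, ← h2]
  exact Cj_X (by norm_num) _ _

/-- the mixed elements `x_{2a+b}(c) x_b(e)` are conjugate to `x_{2a+b}(c)` -/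
theorem Cj_mixed_9_6 [Finite F] {c : F} (hc : c ≠ 0) (e : F) : Cj (X 9 c * X 6 e) (X 9 c) := by
  have h1 : nWr hB2 F [0] * (X 8 c * X 10 e) * (nWr hB2 F [0])⁻¹ = X 9 c * X 6 e := by
    have : nWr hB2 F [0] * (X 8 c * X 10 e) * (nWr hB2 F [0])⁻¹ =
        (nWr hB2 F [0] * X 8 c * (nWr hB2 F [0])⁻¹) *
          (nWr hB2 F [0] * X 10 e * (nWr hB2 F [0])⁻¹) := by group
    rw [this, nWr_conj2 (by decide) (by norm_num), nWr_conj2 (by decide) (by norm_num),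
      wFr_vals.2.2.2.1, wFr_vals.2.2.2.2.1]
  have h2 : nWr hB2 F [0] * X 8 c * (nWr hB2 F [0])⁻¹ = X 9 c := by
    rw [nWr_conj2 (by decide) (by norm_num), wFr_vals.2.2.2.1]
  have hN := nWr_mem_group (F := F) (L := [0]) (by decide)
  refine Cj.trans (Cj.symm ⟨_, hN, h1⟩) (Cj.trans (Cj_mixed_8_10 hc e) ⟨_, hN, h2⟩)

/-- the mixed elements `x_a(c) x_{3a+2b}(e)` are conjugate to `x_a(c)` -/
theorem Cj_mixed_7_11 [Finite F] {c : F} (hc : c ≠ 0) (e : F) : Cj (X 7 c * X 11 e) (X 7 c) := by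
  have h1 : nWr hB2 F [1] * (X 8 c * X 10 e) * (nWr hB2 F [1])⁻¹ = X 7 c * X 11 e := by
    have : nWr hB2 F [1] * (X 8 c * X 10 e) * (nWr hB2 F [1])⁻¹ =
        (nWr hB2 F [1] * X 8 c * (nWr hB2 F [1])⁻¹) *
          (nWr hB2 F [1] * X 10 e * (nWr hB2 F [1])⁻¹) := by group
    rw [this, nWr_conj2 (by decide) (by norm_num), nWr_conj2 (by decide) (by norm_num),
      wFr_vals.2.2.2.2.2, wFr_vals.2.1]
  have h2 : nWr hB2 F [1] * X 8 c * (nWr hB2 F [1])⁻¹ = X 7 c := by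
    rw [nWr_conj2 (by decide) (by norm_num), wFr_vals.2.2.2.2.2]
  have hN := nWr_mem_group (F := F) (L := [1]) (by decide)
  refine Cj.trans (Cj.symm ⟨_, hN, h1⟩) (Cj.trans (Cj_mixed_8_10 hc e) ⟨_, hN, h2⟩)

end char2

end Cfsg.Agent.Helper6.G2Two
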