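import Mathlib
import Cfsg.Agent.Helper6.G2Two.Invol2

set_option autoImplicit false
set_option linter.unusedSectionVars false
set_option linter.unusedVariables false
set_option linter.unusedSimpArgs false

/-!
Every involution of `U ≤ G₂(2ⁿ)` is conjugate to `x_{3a+2b}(1)` or to `x_{2a+b}(1)`.
-/

namespace Cfsg.Agent.Helper6.G2Two

open Cfsg.Lie Cfsg.Agent.Helper6 Cfsg.Agent.Helper6.Ree

variable {F : Type*} [Field F] [CharP F 2]

theorem exists_mul_eq {a : F} (ha : a ≠ 0) (c : F) : ∃ s : F, a * s = c :=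
  ⟨c / a, by field_simp⟩

theorem conj_sq {G : Type*} [Group G] {x u : G} (h : u * u = 1) :
    (x * u * x⁻¹) * (x * u * x⁻¹) = 1 := by
  have : (x * u * x⁻¹) * (x * u * x⁻¹) = x * (u * u) * x⁻¹ := by group
  rw [this, h]; group

/-- the case `a = b = 0` -/
theorem invol_U_00 [Finite F] {c d e f : F} (h2 : M 0 0 c d e f * M 0 0 c d e f = 1)
    (h1 : M 0 0 c d e f ≠ 1) : Cj (M 0 0 c d e f) (X 11 1) ∨ Cj (M 0 0 c d e f) (X 9 1) := by
  obtain ⟨-, -, k3⟩ := invol_cond h2
  have hcd : c * d = 0 := by linear_combination k3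
  by_cases hc : c = 0
  · subst hc
    by_cases hd : d = 0
    · subst hd
      left
      by_cases he : e = 0
      · subst he
        have hf : f ≠ 0 := by
          rintro rfl
          exact h1 M_zero
        rw [← M11]
        exact Cj_11 hf
      · obtain ⟨s, hs⟩ := exists_mul_eq he f
        refine Cj.trans (Cj_X (r := 6) (by norm_num) s _) ?_
        rw [conjM6]
        have e1 : M (0 : F) 0 (0 + s * 0) (0 + s * 0 ^ 2) (e + s * 0 ^ 3) (f + s * e + s * 0 ^ 2 * 0) =
            X 10 e := by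
          rw [M10]
          have h2' : (2 : F) = 0 := CharTwo.two_eq_zero
          apply M_congr <;> try ring1
          linear_combination hs + f * h2'
        rw [e1]
        exact Cj_10 he
    · right
      obtain ⟨s, hs⟩ := exists_mul_eq hd e
      obtain ⟨s', hs'⟩ := exists_mul_eq hd f
      refine Cj.trans (Cj_X (r := 7) (by norm_num) s _) ?_
      rw [conjM7]
      refine Cj.trans (Cj_X (r := 8) (by norm_num) s' _) ?_
      rw [conjM8]
      have e1 : M (0 : F) 0 (0 + 0 * s) (d + 0 * s ^ 2)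
          (e + s ^ 2 * 0 + s * d + 0 * s ^ 3 + 0 * 0 ^ 2 * s + 0 * 0 * s ^ 2 + 0 ^ 2 * s')
          (f + 0 * 0 * s ^ 2 + s * (0 + 0 * s) ^ 2 + 0 * 0 ^ 2 * s ^ 2 + 0 * s' ^ 2 +
            s' * (d + 0 * s ^ 2)) = X 9 d := by
        rw [M9]
        have h2' : (2 : F) = 0 := CharTwo.two_eq_zero
        apply M_congr <;> try ring1
        · linear_combination hs + e * h2'
        · linear_combination hs' + f * h2'
      rw [e1]
      exact Cj_9 hd
  · have hd : d = 0 := (mul_eq_zero.1 hcd).resolve_left hc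
    subst hd
    right
    obtain ⟨s, hs⟩ := exists_mul_eq hc f
    refine Cj.trans (Cj_X (r := 9) (by norm_num) s _) ?_
    rw [conjM9]
    have e1 : M (0 : F) 0 c 0 (e + 0 * s) (f + c * s) = X 8 c * X 10 e := by
      rw [hs, add_self2]
      unfold M
      simp only [X_zero, one_mul, mul_one, zero_mul, add_zero]
    rw [e1]
    exact Cj.trans (Cj_mixed_8_10 hc e) (Cj_8 hc)

/-- the case `a ≠ 0`, `b = 0` -/
theorem invol_U_a0 [Finite F] {a c d e f : F} (ha : a ≠ 0)
    (h2 : M a 0 c d e f * M a 0 c d e f = 1) :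
    Cj (M a 0 c d e f) (X 11 1) ∨ Cj (M a 0 c d e f) (X 9 1) := by
  obtain ⟨s, hs⟩ := exists_mul_eq ha c
  have hcj := Cj_X (r := 7) (by norm_num) s (M a 0 c d e f)
  have hsq := conj_sq (x := X 7 s) h2
  rw [conjM7] at hcj hsq
  have hc0 : c + a * s = 0 := by rw [hs, add_self2]
  rw [hc0] at hcj hsq
  -- the new coordinates
  generalize d + a * s ^ 2 = d' at hcj hsq
  generalize e + s ^ 2 * c + s * d + a * s ^ 3 + a * 0 ^ 2 * s + a * 0 * s ^ 2 = e' at hcj hsq
  generalize f + c * a * s ^ 2 + s * 0 ^ 2 + 0 * a ^ 2 * s ^ 2 = f' at hcj hsq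
  obtain ⟨-, -, k3⟩ := invol_cond hsq
  have he' : e' = 0 := by
    have : a * e' = 0 := by linear_combination k3
    exact (mul_eq_zero.1 this).resolve_left ha
  subst he'
  obtain ⟨s', hs'⟩ := exists_mul_eq ha f'
  have hcj2 := Cj_X (r := 10) (by norm_num) s' (M a 0 0 d' 0 f')
  rw [conjM10, hs', add_self2] at hcj2
  have e1 : M a 0 0 d' 0 0 = X 9 d' * X 6 a := by
    rw [(c_6_9 a d').eq.symm]
    unfold M
    simp only [X_zero, one_mul, mul_one]
  rw [e1] at hcj2
  by_cases hd' : d' = 0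
  · left
    subst hd'
    rw [X_zero, one_mul] at hcj2
    exact Cj.trans hcj (Cj.trans hcj2 (Cj_6 ha))
  · right
    exact Cj.trans hcj (Cj.trans hcj2 (Cj.trans (Cj_mixed_9_6 hd' a) (Cj_9 hd')))

/-- the case `b ≠ 0` (and then `a = 0`) -/
theorem invol_U_0b [Finite F] {b c d e f : F} (hb : b ≠ 0)
    (h2 : M 0 b c d e f * M 0 b c d e f = 1) : Cj (M 0 b c d e f) (X 9 1) := by
  obtain ⟨-, k2, -⟩ := invol_cond h2
  have hd : d = b * c := by
    have h3 : b * (b * c + d) = 0 := by linear_combination k2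
    have h4 : b * c + d = 0 := (mul_eq_zero.1 h3).resolve_left hb
    have h5 : d = b * c + (b * c + d) := by
      rw [← add_assoc, add_self2, zero_add]
    rw [h5, h4, add_zero]
  subst hd
  obtain ⟨s, hs⟩ := exists_mul_eq hb c
  have hcj := Cj_X (r := 6) (by norm_num) s (M 0 b c (b * c) e f)
  rw [conjM6] at hcj
  have hc0 : c + s * b = 0 := by rw [mul_comm s b, hs, add_self2]
  have hd0 : b * c + s * b ^ 2 = 0 := by
    have : s * b ^ 2 = b * (b * s) := by ring
    rw [this, hs, add_self2]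
  rw [hc0, hd0] at hcj
  generalize e + s * b ^ 3 = e' at hcj
  generalize f + s * e + s * b ^ 2 * c = f' at hcj
  obtain ⟨s', hs'⟩ := exists_mul_eq hb e'
  have hcj2 := Cj_X (r := 9) (by norm_num) s' (M 0 b 0 0 e' f')
  rw [conjM9, hs', add_self2, zero_mul, add_zero] at hcj2
  have e1 : M 0 b 0 0 0 f' = X 7 b * X 11 f' := by
    unfold M
    simp only [X_zero, one_mul, mul_one]
  rw [e1] at hcj2
  exact Cj.trans hcj (Cj.trans hcj2 (Cj.trans (Cj_mixed_7_11 hb f') (Cj_7 hb)))

/-- **every involution of `U` is conjugate to a long or a short root involution** -/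
theorem invol_U [Finite F] {u : GL chevG2.Idx F} (hu : u ∈ chevG2.posUnipotent F)
    (h2 : u * u = 1) (h1 : u ≠ 1) : Cj u (X 11 1) ∨ Cj u (X 9 1) := by
  obtain ⟨a, b, c, d, e, f, rfl⟩ := M_exists hu
  obtain ⟨k1, -, -⟩ := invol_cond h2
  by_cases hb : b = 0
  · subst hb
    by_cases ha : a = 0
    · subst ha
      exact invol_U_00 h2 h1
    · exact invol_U_a0 ha h2
  · have ha : a = 0 := (mul_eq_zero.1 k1).resolve_right hb
    subst ha
    exact Or.inr (invol_U_0b hb h2)

end Cfsg.Agent.Helper6.G2Two
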