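import Mathlib
import Cfsg.Agent.Helper6.G2Two.Invol3
import Cfsg.Agent.Helper11.ChevSylow

set_option autoImplicit false
set_option linter.unusedSectionVars false
set_option linter.unusedVariables false
set_option linter.unusedSimpArgs false

/-!
The two classes of involutions of `G₂(2ⁿ)`.
-/

namespace Cfsg.Agent.Helper6.G2Two

open Cfsg.Lie Cfsg.Agent.Helper6 Cfsg.Agent.Helper6.Ree
open scoped Pointwise

variable {F : Type*} [Field F] [CharP F 2]

/-- an involution of the group is conjugate to an element of `U` -/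
theorem exists_conj_mem_U [Fintype F] {g : GL chevG2.Idx F} (hg : g ∈ chevG2.group F)
    (h2 : orderOf g = 2) : ∃ x ∈ chevG2.group F, x * g * x⁻¹ ∈ chevG2.posUnipotent F := by
  classical
  have : Fact (Nat.Prime 2) := ⟨Nat.prime_two⟩
  obtain ⟨P, hP⟩ := Cfsg.Agent.Helper11.ChevSylow.exists_sylow (F := F) (D := chevG2) 2
    (by simp)
  let g' : ↥(chevG2.group F) := ⟨g, hg⟩
  have ho : orderOf g' = 2 := by
    rw [← Subgroup.orderOf_coe]; exact h2
  have hpg : IsPGroup 2 (Subgroup.zpowers g') := by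
    apply IsPGroup.of_card (n := 1)
    rw [Nat.card_zpowers, ho, pow_one]
  obtain ⟨Q, hQ⟩ := hpg.exists_le_sylow
  obtain ⟨x, hx⟩ := MulAction.exists_smul_eq ↥(chevG2.group F) Q P
  refine ⟨x, x.2, ?_⟩
  have h1 : g' ∈ (Q : Subgroup ↥(chevG2.group F)) := hQ (Subgroup.mem_zpowers g')
  have h3 : MulAut.conj x • g' ∈ MulAut.conj x • (Q : Subgroup ↥(chevG2.group F)) :=
    Subgroup.smul_mem_pointwise_smul _ _ _ h1
  rw [← Sylow.coe_subgroup_smul, hx, hP, Subgroup.mem_subgroupOf] at h3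
  simpa [MulAut.smul_def, MulAut.conj_apply] using h3

theorem w11_ne_9 : ∀ p ∈ W12, p.getD 11 0 ≠ 9 := by decide

theorem T_eq_M (c α β : F) : X 9 c * (X 10 α * X 11 β) = M 0 0 0 c α β := by
  unfold M
  simp only [X_zero, one_mul]

/-- long and short root involutions are not conjugate -/
theorem not_Cj_11_9 : ¬ Cj (X 11 (1 : F)) (X 9 1) := by
  rintro ⟨h, hh, e⟩
  have Δ := bnG (F := F)
  obtain ⟨u₁, hu₁, n, hn, u, hu, rfl⟩ := Δ.unu_exists hh
  have huU : u ∈ chevG2.posUnipotent F := ((Δ.mem_Un_iff hn).1 hu).1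
  have e1 : n * X 11 1 * n⁻¹ = u₁⁻¹ * X 9 1 * u₁ := by
    rw [← e]
    have : u * X 11 1 * u⁻¹ = X 11 (1 : F) := conj_of_commute (U_comm_11 huU 1)
    calc n * X 11 1 * n⁻¹ = n * (u * X 11 1 * u⁻¹) * n⁻¹ := by rw [this]
      _ = _ := by group
  have hT : InT (u₁⁻¹ * X 9 1 * u₁) := borel_inv_conj_T (Δ.posUnipotent_le_borel hu₁) inT_9
  obtain ⟨L, hL, h', hh', rfl⟩ := monomial_eq_word hn
  obtain ⟨c, hc0, hv, hconj⟩ := diag_conj_X hh'
  have e2 : nWr hB2 F L * h' * X 11 1 * (nWr hB2 F L * h')⁻¹ =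
      X (wFr chevG2 L 11) (torChar chevG2 c 11 * 1) := by
    calc nWr hB2 F L * h' * X 11 1 * (nWr hB2 F L * h')⁻¹
        = nWr hB2 F L * (h' * X 11 1 * h'⁻¹) * (nWr hB2 F L)⁻¹ := by group
      _ = nWr hB2 F L * X 11 (torChar chevG2 c 11 * 1) * (nWr hB2 F L)⁻¹ := by
          rw [hconj 11 (by norm_num) 1]
      _ = _ := nWr_conj2 hL (by norm_num) _
  rw [e2] at e1
  have hχ : torChar chevG2 c 11 * 1 ≠ 0 := by
    rw [mul_one]; exact torChar_ne c hc0 11
  generalize torChar chevG2 c 11 * 1 = χ at e1 hχ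
  have hlt : wFr chevG2 L 11 < 12 := Δ.wFr_lt hL (by decide)
  have hne : wFr chevG2 L 11 ≠ 9 := by
    have := w11_ne_9 _ (permW_mem L hL)
    rwa [permW_getD L (by norm_num)] at this
  generalize wFr chevG2 L 11 = r at e1 hlt hne
  have hTU := inT_mem_U hT
  obtain ⟨c', α, β, hc', eT⟩ := hT
  rw [eT] at e1
  by_cases h6 : 6 ≤ r
  · rw [T_eq_M] at e1
    have : r = 6 ∨ r = 7 ∨ r = 8 ∨ r = 10 ∨ r = 11 := by omega
    rcases this with rfl | rfl | rfl | rfl | rfl
    · rw [M6] at e1; exact hc' (M_unique e1).2.2.2.1.symm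
    · rw [M7] at e1; exact hc' (M_unique e1).2.2.2.1.symm
    · rw [M8] at e1; exact hc' (M_unique e1).2.2.2.1.symm
    · rw [M10] at e1; exact hc' (M_unique e1).2.2.2.1.symm
    · rw [M11] at e1; exact hc' (M_unique e1).2.2.2.1.symm
  · apply hχ
    apply X_neg_eq_zero (r := r) (by omega)
    rw [e1, ← eT]; exact hTU

end Cfsg.Agent.Helper6.G2Two
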